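import Cfsg.Agent.Geo.OrthDecompBasic
import Cfsg.Agent.Quad.OmegaMem

/-!
Orthogonal decompositions into isometric non-degenerate members of dimension at least two, in any
characteristic: components, swaps, corrections into a subgroup, and pairs of reflections.
-/

set_option autoImplicit false
set_option linter.unusedSectionVars false

namespace CfsgLib.Geo.OD2

open QuadraticMap CfsgLib.Forms CfsgLib.Quad CfsgLib.Geo.OS

variable {F V : Type*} [Field F] [AddCommGroup V] [Module F V] [FiniteDimensional F V] [Finite F]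
  {Q : QuadraticForm F V} {t k : ℕ}

/-- An orthogonal decomposition into isometric non-degenerate members of dimension `k ≥ 2`. -/
structure Dec (Q : QuadraticForm F V) (k : ℕ) (D : Fin t → Submodule F V) : Prop where
  two_le : 2 ≤ k
  two : 2 ≤ t
  dim : ∀ i, Module.finrank F (D i) = k
  nd : ∀ i, ND Q (D i)
  orth : ∀ i j, i ≠ j → ∀ x ∈ D i, ∀ y ∈ D j, polar Q x y = 0
  top : iSup D = ⊤
  iso : ∀ i j, ∃ e : D i ≃ₗ[F] D j, ∀ w : D i, Q (e w : V) = Q (w : V)

omit [Finite F] in
theorem sq_trans {a b c : F} (ha : a ≠ 0) (h : IsSquare (a * b)) (h' : IsSquare (a * c)) :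
    IsSquare (b * c) := by
  obtain ⟨r, hr⟩ := h
  obtain ⟨s, hs⟩ := h'
  refine ⟨r * s / a, ?_⟩
  field_simp
  linear_combination (a * c) * hr + r * r * hs

/-- The product of the two reflections lies in `M`. -/
def Rel (M : Subgroup (oGroup Q)) (x y : V) : Prop := refl Q x * refl Q y ∈ M

namespace Rel

variable {M : Subgroup (oGroup Q)}

theorem rfl' (x : V) : Rel M x x := by rw [Rel, refl_mul_self]; exact one_mem _

theorem symm {x y : V} (h : Rel M x y) : Rel M y x := by
  have := inv_mem h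
  rwa [mul_inv_rev, refl_inv, refl_inv] at this

theorem trans {x y z : V} (h : Rel M x y) (h' : Rel M y z) : Rel M x z := by
  have := mul_mem h h'
  rwa [mul_assoc, ← mul_assoc (refl Q y), refl_mul_self, one_mul] at this

theorem conj {g : oGroup Q} (hg : g ∈ M) {x y : V} (h : Rel M x y) : Rel M (g.1 x) (g.1 y) := by
  rw [Rel, ← refl_conj, ← refl_conj]
  have := mul_mem (mul_mem hg h) (inv_mem hg)
  convert this using 1
  group

theorem smul_left {x y : V} {c : F} (hc : c ≠ 0) : Rel M (c • x) y ↔ Rel M x y := by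
  rw [Rel, refl_smul hc]; rfl

omit [FiniteDimensional F V] [Finite F] in
theorem refl_mul_refl_add {x e : V} (hx : Q x ≠ 0) (he : Q e = 0) (hex : polar Q e x = 0) (s : F) :
    refl Q x * refl Q (x + s • e) = siegel Q e ((s / Q x) • x) := by
  rcases eq_or_ne s 0 with rfl | hs
  · rw [zero_div, zero_smul, zero_smul, add_zero, siegel_zero he, refl_mul_self]
  have hc : s / Q x ≠ 0 := div_ne_zero hs hx
  rw [siegel_eq_refl_mul he (by rw [polar_smul_right, hex, smul_zero])
    (by rw [quad_smul]; exact mul_ne_zero (mul_ne_zero hc hc) hx), refl_smul hc,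
    show (s / Q x) • x + Q ((s / Q x) • x) • e = (s / Q x) • (x + s • e) by
      rw [quad_smul, smul_add, smul_smul]; congr 2; field_simp, refl_smul hc]

/-- Two vectors differing by a multiple of a singular orthogonal vector give a root element. -/
theorem siegel_mem {x e : V} {s : F} (hx : Q x ≠ 0) (he : Q e = 0) (hex : polar Q e x = 0)
    (h : Rel M x (x + s • e)) : siegel Q e ((s / Q x) • x) ∈ M := by
  rw [← refl_mul_refl_add hx he hex]; exact h

/-- A root element gives two related vectors. -/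
theorem of_siegel {x e : V} (hx : Q x ≠ 0) (he : Q e = 0) (hex : polar Q e x = 0)
    (h : siegel Q e x ∈ M) : Rel M x (x + Q x • e) := by
  rwa [Rel, ← siegel_eq_refl_mul he hex hx]

/-- If two related vectors differ by an anisotropic vector, that vector is related to a third. -/
theorem refl_diff {x δ : V} (hx : Q x ≠ 0) (hδ : Q δ ≠ 0) (hsame : Q (x + δ) = Q x)
    (h : Rel M x (x + δ)) :
    Rel M (δ + (Q δ / Q x) • x) δ ∧ Q (δ + (Q δ / Q x) • x) = Q δ := by
  have hb : polar Q x δ = -Q δ := by rw [quad_add] at hsame; linear_combination hsame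
  have hz : δ + (Q δ / Q x) • x = (refl Q x).1 δ := by
    rw [refl_apply, polar_comm (⇑Q) δ x, hb]; congr 2; field_simp
  refine ⟨?_, by rw [hz]; exact (refl Q x).2 δ⟩
  have hxδ : (refl Q δ).1 x = x + δ := by
    rw [refl_apply, hb, neg_mul_neg, inv_mul_cancel₀ hδ, one_smul]
  rw [Rel, ← hxδ, ← refl_conj, refl_inv] at h
  rw [Rel, hz, ← refl_conj, refl_inv]
  simpa [mul_assoc] using h

end Rel

variable (hQ : (polarBilin Q).Nondegenerate) {D : Fin t → Submodule F V} (hD : Dec Q k D)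

/-- The component in one member. -/
noncomputable def pr (i : Fin t) : V →ₗ[F] V :=
  (D i).projection (perpS Q (D i)) (ND.isCompl hQ (hD.nd i))

theorem pr_mem (i : Fin t) (x : V) : pr hQ hD i x ∈ D i := Submodule.projection_apply_mem _ x

theorem sub_pr_mem (i : Fin t) (x : V) : x - pr hQ hD i x ∈ perpS Q (D i) :=
  Submodule.sub_projection_mem _ x

include hQ hD

theorem polar_pr {i : Fin t} {y : V} (hy : y ∈ D i) (x : V) :
    polar Q y (pr hQ hD i x) = polar Q y x := by
  have := sub_pr_mem hQ hD i x y hy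
  rw [polar_sub_right, sub_eq_zero] at this
  exact this.symm

theorem polar_pr' {i : Fin t} {y : V} (hy : y ∈ D i) (x : V) :
    polar Q (pr hQ hD i x) y = polar Q x y := by
  rw [polar_comm, polar_pr hQ hD hy, polar_comm]

theorem pr_of_mem {i : Fin t} {x : V} (hx : x ∈ D i) : pr hQ hD i x = x :=
  Submodule.projection_apply_of_mem_left _ hx

theorem pr_eq_zero_iff {i : Fin t} {x : V} :
    pr hQ hD i x = 0 ↔ ∀ y ∈ D i, polar Q x y = 0 := by
  refine ⟨fun h y hy => ?_, fun h => ND.eq_zero (hD.nd i) (pr_mem hQ hD i x) fun y hy => ?_⟩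
  · rw [← polar_pr' hQ hD hy, h, polar_zero_left]
  · rw [polar_pr hQ hD hy, polar_comm, h y hy]

theorem pr_of_mem_ne {i j : Fin t} (hij : i ≠ j) {x : V} (hx : x ∈ D j) : pr hQ hD i x = 0 :=
  (pr_eq_zero_iff hQ hD).2 fun y hy => hD.orth j i hij.symm x hx y hy

theorem sum_pr (x : V) : ∑ i, pr hQ hD i x = x := by
  classical
  have hx : x ∈ iSup D := by rw [hD.top]; trivial
  induction hx using Submodule.iSup_induction' with
  | mem i x hx =>
    rw [Finset.sum_eq_single i (fun j _ hji => pr_of_mem_ne hQ hD hji hx)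
      (fun h => absurd (Finset.mem_univ i) h), pr_of_mem hQ hD hx]
  | zero => simp
  | add x y _ _ hx hy => simp only [map_add, Finset.sum_add_distrib, hx, hy]

theorem quad_pr (x : V) : Q x = ∑ i, Q (pr hQ hD i x) := by
  classical
  conv_lhs => rw [← sum_pr hQ hD x]
  have h := quad_sum_orth (Q := Q) Finset.univ (fun i => pr hQ hD i x) (fun _ => (1 : F))
    fun i j hij => hD.orth i j hij _ (pr_mem hQ hD i x) _ (pr_mem hQ hD j x)
  simpa using h

theorem polar_sum_pr (x y : V) : polar Q x y = ∑ i, polar Q (pr hQ hD i x) (pr hQ hD i y) := by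
  conv_lhs => rw [← sum_pr hQ hD x]
  rw [show polar Q (∑ i, pr hQ hD i x) y = ∑ i, polar Q (pr hQ hD i x) y from
    map_sum ((polarBilin Q).flip y) _ _]
  exact Finset.sum_congr rfl fun i _ => (polar_pr hQ hD (pr_mem hQ hD i x) y).symm

theorem exists_pr_ne {x : V} (hx : x ≠ 0) : ∃ i, pr hQ hD i x ≠ 0 := by
  by_contra hc
  push Not at hc
  exact hx (by rw [← sum_pr hQ hD x, Finset.sum_eq_zero fun i _ => hc i])

theorem ext_pr {x y : V} (h : ∀ i, pr hQ hD i x = pr hQ hD i y) : x = y := by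
  rw [← sum_pr hQ hD x, ← sum_pr hQ hD y]
  exact Finset.sum_congr rfl fun i _ => h i

/-- A vector with at most one non-zero component lies in that member. -/
theorem mem_of_pr {x : V} {i : Fin t} (h : ∀ j, j ≠ i → pr hQ hD j x = 0) : x ∈ D i := by
  rw [← sum_pr hQ hD x, Finset.sum_eq_single i (fun j _ hj => h j hj)
    (fun h => absurd (Finset.mem_univ i) h)]
  exact pr_mem hQ hD i x

omit hQ in
theorem member_ne_bot (i : Fin t) : D i ≠ ⊥ := fun h => by
  have := hD.dim i
  rw [h, finrank_bot] at this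
  have := hD.two_le
  omega

theorem member_inj {i j : Fin t} (h : D i = D j) : i = j := by
  by_contra hne
  obtain ⟨x, hx, hx0⟩ := Submodule.exists_mem_ne_zero_of_ne_bot (member_ne_bot hD i)
  exact hx0 (by rw [← pr_of_mem hQ hD hx, pr_of_mem_ne hQ hD hne (h ▸ hx)])

omit hQ in
theorem exists_aniso_mem (i : Fin t) : ∃ v ∈ D i, Q v ≠ 0 := by
  by_contra hc
  push Not at hc
  obtain ⟨v, hv, hv0⟩ := Submodule.exists_mem_ne_zero_of_ne_bot (member_ne_bot hD i)
  obtain ⟨y, hy, hvy⟩ := ND.partner (hD.nd i) hv hv0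
  exact hvy (by rw [polar, hc _ ((D i).add_mem hv hy), hc v hv, hc y hy]; ring)

omit hQ in
/-- Every non-zero value is attained in every member. -/
theorem exists_value_mem (i : Fin t) {c : F} (hc : c ≠ 0) : ∃ d ∈ D i, Q d = c := by
  obtain ⟨v, hv, hQv⟩ := exists_aniso_mem hD i
  by_cases h2 : (2 : F) = 0
  · haveI : CharP F 2 := CharTwo.of_one_ne_zero_of_two_eq_zero one_ne_zero h2
    obtain ⟨r, hr⟩ := isSquare_char_two (c / Q v)
    exact ⟨r • v, (D i).smul_mem _ hv, by rw [quad_smul, ← hr, div_mul_cancel₀ _ hQv]⟩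
  · have hnd : (polarBilin (Q.comp (D i).subtype)).Nondegenerate := by
      refine ⟨fun x hx => Subtype.ext (ND.eq_zero (hD.nd i) x.2 fun y hy => ?_),
        fun x hx => Subtype.ext (ND.eq_zero (hD.nd i) x.2 fun y hy => ?_)⟩
      · have := hx ⟨y, hy⟩
        simp only [polarBilin_apply_apply, polar, QuadraticMap.comp_apply, Submodule.coe_subtype,
          Submodule.coe_add] at this
        rw [polar_comm]; exact this
      · have := hx ⟨y, hy⟩
        simp only [polarBilin_apply_apply, polar, QuadraticMap.comp_apply, Submodule.coe_subtype,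
          Submodule.coe_add] at this
        exact this
    obtain ⟨d, hd⟩ := exists_value hnd h2 (by rw [hD.dim]; exact hD.two_le) c
    exact ⟨d, d.2, hd⟩

theorem refl_mem_stab {l : Fin t} {d : V} (hd : d ∈ D l) : refl Q d ∈ decompStab Q D := by
  refine mem_decompStab_of_le hD.dim 1 fun i x hx => ?_
  rw [Equiv.Perm.one_apply]
  rcases eq_or_ne i l with rfl | hil
  · rw [refl_apply]; exact (D i).add_mem hx ((D i).smul_mem _ hd)
  · rw [refl_fix (hD.orth i l hil x hx d hd)]; exact hx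

theorem reflProd_mem_stab {vs : List V} (h : ∀ v ∈ vs, ∃ i, v ∈ D i) :
    reflProd Q vs ∈ decompStab Q D := by
  induction vs with
  | nil => rw [reflProd_nil]; exact one_mem _
  | cons v vs ih =>
    rw [reflProd_cons]
    obtain ⟨i, hi⟩ := h v List.mem_cons_self
    exact mul_mem (refl_mem_stab hQ hD hi) (ih fun w hw => h w (List.mem_cons_of_mem _ hw))

omit hQ hD in
/-- Products of reflections in one member. -/
theorem closure_refl_props {l : Fin t} {c : oGroup Q}
    (hc : c ∈ Subgroup.closure {r | ∃ d ∈ D l, r = refl Q d}) :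
    (∀ x, (∀ y ∈ D l, polar Q x y = 0) → c.1 x = x) ∧ ∀ x ∈ D l, c.1 x ∈ D l := by
  induction hc using Subgroup.closure_induction with
  | mem r hr =>
    obtain ⟨d, hd, rfl⟩ := hr
    exact ⟨fun x hx => refl_fix (hx d hd), fun x hx => by
      rw [refl_apply]; exact (D l).add_mem hx ((D l).smul_mem _ hd)⟩
  | one => exact ⟨fun x _ => rfl, fun x hx => hx⟩
  | mul a b _ _ ha hb =>
    exact ⟨fun x hx => by change a.1 (b.1 x) = x; rw [hb.1 x hx, ha.1 x hx],
      fun x hx => ha.2 _ (hb.2 x hx)⟩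
  | inv a _ ha =>
    refine ⟨fun x hx => ?_, fun x hx => ?_⟩
    · change a.1.symm x = x
      rw [LinearEquiv.symm_apply_eq, ha.1 x hx]
    · have heq : (D l).map a.1.toLinearMap = D l := Submodule.eq_of_le_of_finrank_le
        (by rintro _ ⟨y, hy, rfl⟩; exact ha.2 y hy) (LinearEquiv.finrank_map_eq a.1 (D l)).ge
      change a.1.symm x ∈ D l
      rw [← heq] at hx
      obtain ⟨y, hy, rfl⟩ := hx
      change a.1.symm (a.1 y) ∈ D l
      rwa [LinearEquiv.symm_apply_apply]

/-- An isometry exchanging two members and fixing the others. -/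
theorem exists_swap {i j : Fin t} (hij : i ≠ j) :
    ∃ s : oGroup Q, s ∈ decompStab Q D ∧ (∀ x ∈ D i, s.1 x ∈ D j) ∧ (∀ x ∈ D j, s.1 x ∈ D i) ∧
      (∀ x, s.1 (s.1 x) = x) ∧ ∀ x, pr hQ hD i x = 0 → pr hQ hD j x = 0 → s.1 x = x := by
  classical
  obtain ⟨φ, hφ⟩ := hD.iso i j
  let pi : V →ₗ[F] D i := (pr hQ hD i).codRestrict (D i) (pr_mem hQ hD i)
  let pj : V →ₗ[F] D j := (pr hQ hD j).codRestrict (D j) (pr_mem hQ hD j)
  let S : V →ₗ[F] V := LinearMap.id - pr hQ hD i - pr hQ hD j +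
    (D j).subtype ∘ₗ φ.toLinearMap ∘ₗ pi + (D i).subtype ∘ₗ φ.symm.toLinearMap ∘ₗ pj
  have hSapply : ∀ x, S x = x - pr hQ hD i x - pr hQ hD j x + (φ (pi x) : V) + (φ.symm (pj x) : V) :=
    fun x => rfl
  have hi : ∀ {x} (hx : x ∈ D i), pi x = ⟨x, hx⟩ ∧ pj x = 0 := fun {x} hx =>
    ⟨Subtype.ext (pr_of_mem hQ hD hx), Subtype.ext (pr_of_mem_ne hQ hD hij.symm hx)⟩
  have hj : ∀ {x} (hx : x ∈ D j), pj x = ⟨x, hx⟩ ∧ pi x = 0 := fun {x} hx =>
    ⟨Subtype.ext (pr_of_mem hQ hD hx), Subtype.ext (pr_of_mem_ne hQ hD hij hx)⟩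
  have hSi : ∀ {x} (hx : x ∈ D i), S x = (φ ⟨x, hx⟩ : V) := fun {x} hx => by
    rw [hSapply, (hi hx).1, (hi hx).2, pr_of_mem hQ hD hx, pr_of_mem_ne hQ hD hij.symm hx]
    simp
  have hSj : ∀ {x} (hx : x ∈ D j), S x = (φ.symm ⟨x, hx⟩ : V) := fun {x} hx => by
    rw [hSapply, (hj hx).1, (hj hx).2, pr_of_mem hQ hD hx, pr_of_mem_ne hQ hD hij hx]
    simp
  have hSl : ∀ l, l ≠ i → l ≠ j → ∀ x ∈ D l, S x = x := fun l hli hlj x hx => by
    have a : pi x = 0 := Subtype.ext (pr_of_mem_ne hQ hD hli.symm hx)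
    have b : pj x = 0 := Subtype.ext (pr_of_mem_ne hQ hD hlj.symm hx)
    rw [hSapply, a, b, pr_of_mem_ne hQ hD hli.symm hx, pr_of_mem_ne hQ hD hlj.symm hx]
    simp
  have hQS : ∀ l, ∀ x ∈ D l, Q (S x) = Q x := by
    intro l x hx
    rcases eq_or_ne l i with rfl | hli
    · rw [hSi hx, hφ]
    rcases eq_or_ne l j with rfl | hlj
    · rw [hSj hx, ← hφ, φ.apply_symm_apply]
    · rw [hSl l hli hlj x hx]
  have hmem : ∀ l, ∀ x ∈ D l, S x ∈ D (Equiv.swap i j l) := by
    intro l x hx
    rcases eq_or_ne l i with rfl | hli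
    · rw [hSi hx, Equiv.swap_apply_left]; exact (φ _).2
    rcases eq_or_ne l j with rfl | hlj
    · rw [hSj hx, Equiv.swap_apply_right]; exact (φ.symm _).2
    · rw [hSl l hli hlj x hx, Equiv.swap_apply_of_ne_of_ne hli hlj]; exact hx
  have hpres : ∀ x, Q (S x) = Q x := by
    intro x
    have h1 : Q (∑ l, (1 : F) • S (pr hQ hD l x)) = ∑ l, 1 * 1 * Q (S (pr hQ hD l x)) :=
      quad_sum_orth Finset.univ (fun l => S (pr hQ hD l x)) (fun _ => (1 : F)) fun a b hab =>
        hD.orth _ _ (fun e => hab ((Equiv.swap i j).injective e)) _ (hmem a _ (pr_mem hQ hD a x))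
          _ (hmem b _ (pr_mem hQ hD b x))
    simp only [one_smul, one_mul, hQS _ _ (pr_mem hQ hD _ x)] at h1
    rwa [← map_sum, sum_pr hQ hD, ← quad_pr hQ hD] at h1
  have hinv : Function.Involutive S := by
    intro x
    have hx : x ∈ iSup D := by rw [hD.top]; trivial
    induction hx using Submodule.iSup_induction' with
    | mem l x hx =>
      rcases eq_or_ne l i with rfl | hli
      · rw [hSi hx, hSj (φ ⟨x, hx⟩).2, Subtype.coe_eta, φ.symm_apply_apply]
      rcases eq_or_ne l j with rfl | hlj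
      · rw [hSj hx, hSi (φ.symm ⟨x, hx⟩).2, Subtype.coe_eta, φ.apply_symm_apply]
      · rw [hSl l hli hlj x hx, hSl l hli hlj x hx]
    | zero => simp
    | add x y _ _ hx hy => rw [map_add, map_add, hx, hy]
  refine ⟨⟨LinearEquiv.ofInvolutive S hinv, hpres⟩,
    mem_decompStab_of_le hD.dim (Equiv.swap i j) hmem, fun x hx => ?_, fun x hx => ?_, hinv,
    fun x hi0 hj0 => ?_⟩
  · have := hmem i x hx
    rwa [Equiv.swap_apply_left] at this
  · have := hmem j x hx
    rwa [Equiv.swap_apply_right] at this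
  · change S x = x
    have a : pi x = 0 := Subtype.ext hi0
    have b : pj x = 0 := Subtype.ext hj0
    rw [hSapply, hi0, hj0, a, b]
    simp

variable (hn : 5 ≤ Module.finrank F V)

include hn

/-- Modulo `Ω`, every isometry is a product of reflections in one member. -/
theorem exists_corr (l : Fin t) (g : oGroup Q) :
    ∃ c ∈ Subgroup.closure {r | ∃ d ∈ D l, r = refl Q d}, g * c ∈ commutator (oGroup Q) := by
  set C := Subgroup.closure {r : oGroup Q | ∃ d ∈ D l, r = refl Q d}
  have hg : g ∈ reflGroup Q := by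
    rw [reflGroup_eq_top hQ (Or.inr (by omega))]; trivial
  have hle : reflGroup Q ≤ (C.map Abelianization.of).comap Abelianization.of := by
    refine (Subgroup.closure_le _).2 ?_
    rintro _ ⟨v, rfl⟩
    change Abelianization.of (refl Q v) ∈ C.map Abelianization.of
    by_cases hv : Q v = 0
    · rw [refl_eq_one hv, map_one]; exact one_mem _
    obtain ⟨d, hd, hQd⟩ := exists_value_mem hD l hv
    refine ⟨refl Q d, Subgroup.subset_closure ⟨d, hd, rfl⟩, ?_⟩
    have h1 : Abelianization.of (refl Q d * refl Q v) = 1 :=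
      (QuotientGroup.eq_one_iff _).2 (refl_pair_mem_commutator hQ (by rwa [hQd]) hv
        (by rw [hQd]; exact IsSquare.mul_self _))
    rw [map_mul] at h1
    exact mul_right_cancel (b := Abelianization.of (refl Q v)) (h1.trans
      (by rw [← map_mul, refl_mul_self, map_one]))
  obtain ⟨c, hc, hce⟩ := hle hg
  refine ⟨c⁻¹, inv_mem hc, (QuotientGroup.eq_one_iff _).1 ?_⟩
  change Abelianization.of (g * c⁻¹) = 1
  rw [map_mul, map_inv, hce, mul_inv_cancel]

/-- An element of the stabiliser corrected in one member into `M`. -/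
theorem corr_mem {M : Subgroup (oGroup Q)} (hM : decompStab Q D ⊓ commutator (oGroup Q) ≤ M)
    (l : Fin t) {g : oGroup Q} (hg : g ∈ decompStab Q D) :
    ∃ h ∈ M, h ∈ decompStab Q D ∧ (∀ x, pr hQ hD l x = 0 → h.1 x = g.1 x) ∧
      ∀ x ∈ D l, ∃ x' ∈ D l, h.1 x = g.1 x' := by
  obtain ⟨c, hc, hgc⟩ := exists_corr hQ hD hn l g
  have hcS : c ∈ decompStab Q D :=
    (Subgroup.closure_le _).2 (by rintro _ ⟨d, hd, rfl⟩; exact refl_mem_stab hQ hD hd) hc
  obtain ⟨hfix, hmem⟩ := closure_refl_props hc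
  refine ⟨g * c, hM ⟨mul_mem hg hcS, hgc⟩, mul_mem hg hcS, fun x hx => ?_,
    fun x hx => ⟨c.1 x, hmem x hx, rfl⟩⟩
  change g.1 (c.1 x) = g.1 x
  rw [hfix x ((pr_eq_zero_iff hQ hD).1 hx)]

section good

variable {M : Subgroup (oGroup Q)}

omit hQ hD hn in
/-- An anisotropic vector related to a member vector of the same class. -/
def Good (D : Fin t → Submodule F V) (M : Subgroup (oGroup Q)) (z : V) : Prop :=
  Q z ≠ 0 ∧ ∃ i, ∃ d ∈ D i, Q d ≠ 0 ∧ IsSquare (Q z * Q d) ∧ Rel M z d

variable (hM : decompStab Q D ⊓ commutator (oGroup Q) ≤ M)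

include hM

/-- Two member vectors of the same class. -/
theorem Rel.member {i j : Fin t} {a b : V} (ha : a ∈ D i) (hb : b ∈ D j) (hQa : Q a ≠ 0)
    (hQb : Q b ≠ 0) (h : IsSquare (Q a * Q b)) : Rel M a b :=
  hM ⟨mul_mem (refl_mem_stab hQ hD ha) (refl_mem_stab hQ hD hb),
    refl_pair_mem_commutator hQ hQa hQb h⟩

theorem Good.member {i : Fin t} {a : V} (ha : a ∈ D i) (hQa : Q a ≠ 0) : Good D M a :=
  ⟨hQa, i, a, ha, hQa, IsSquare.mul_self _, Rel.rfl' a⟩

theorem Good.rel {z : V} (h : Good D M z) {j : Fin t} {d : V} (hd : d ∈ D j) (hQd : Q d ≠ 0)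
    (hz : IsSquare (Q z * Q d)) : Rel M z d := by
  obtain ⟨hQz, i, d0, hd0, hQd0, hz0, h⟩ := h
  refine h.trans (Rel.member hQ hD hn hM hd0 hd hQd0 hQd ?_)
  exact sq_trans hQz hz0 hz

theorem Good.trans {z w : V} (h : Good D M z) (hw : Good D M w) (hzw : IsSquare (Q z * Q w)) :
    Rel M z w := by
  obtain ⟨hQw, i, d, hd, hQd, hsq, hrel⟩ := hw
  exact (Good.rel hQ hD hn hM h hd hQd
    (sq_trans hQw (by rwa [mul_comm]) hsq)).trans hrel.symm

theorem Good.of_rel {z w : V} (hz : Q z ≠ 0) (hzw : IsSquare (Q z * Q w)) (h : Rel M z w)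
    (hw : Good D M w) : Good D M z := by
  obtain ⟨hQw, i, d, hd, hQd, hsq, hrel⟩ := hw
  exact ⟨hz, i, d, hd, hQd, sq_trans hQw (by rwa [mul_comm]) hsq, h.trans hrel⟩

/-- Elements of the stabiliser inside `M` preserve the good vectors. -/
theorem Good.map {g : oGroup Q} (hg : g ∈ M) (hgS : g ∈ decompStab Q D) {z : V}
    (h : Good D M z) : Good D M (g.1 z) := by
  obtain ⟨hQz, i, d, hd, hQd, hsq, hrel⟩ := h
  obtain ⟨σ, hσ⟩ := hgS
  exact ⟨by rwa [g.2], σ i, g.1 d, hσ i ▸ ⟨d, hd, rfl⟩, by rwa [g.2], by rwa [g.2, g.2],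
    hrel.conj hg⟩

/-- The reflection of a good vector in another one of the same class is good. -/
theorem Good.refl {v w : V} (hv : Good D M v) (hw : Good D M w) (h : IsSquare (Q v * Q w)) :
    Good D M ((CfsgLib.Quad.refl Q v).1 w) := by
  have hr := Good.trans hQ hD hn hM hv hw h
  refine Good.of_rel hQ hD hn hM (by rw [(CfsgLib.Quad.refl Q v).2]; exact hw.1)
    (by rw [(CfsgLib.Quad.refl Q v).2, mul_comm]; exact h) ?_ hv
  rw [Rel, ← refl_conj, refl_inv, mul_assoc, refl_mul_self, mul_one]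
  exact hr

end good

end CfsgLib.Geo.OD2
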