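import Cfsg.Agent.Geo.OrthDec2.Outside
import Cfsg.Agent.Geo.OrthDecompOvergroup

/-!
In characteristic two the stabiliser in `Ω` of an orthogonal decomposition into members of dimension
at least four is maximal, except for four-dimensional members of plus type over two elements.
-/

set_option autoImplicit false
set_option linter.unusedSectionVars false

namespace CfsgLib.Geo.OD2

open QuadraticMap CfsgLib.Forms CfsgLib.Quad CfsgLib.Geo.OS

variable {F V : Type*} [Field F] [AddCommGroup V] [Module F V] [FiniteDimensional F V] [Finite F]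
  {Q : QuadraticForm F V} {t k : ℕ} {D : Fin t → Submodule F V}

theorem dec_of_od (hD : OD Q k D) : Dec Q k D :=
  ⟨le_trans (by omega) hD.three, hD.two, hD.dim, hD.nd, hD.orth, hD.top, hD.iso⟩

variable [CharP F 2] (hQ : (polarBilin Q).Nondegenerate) (hD : OD Q k D) (hk : 4 ≤ k)
  (hn : 7 ≤ Module.finrank F V)
  (hex : k = 4 → Nat.card F = 2 → ∀ i, ∀ x ∈ D i, ∀ y ∈ D i, x ≠ 0 → Q x = 0 → Q y = 0 →
    polar Q x y = 0 → y ∈ Submodule.span F {x})
  {M : Subgroup (oGroup Q)} (hM : decompStab Q D ⊓ commutator (oGroup Q) ≤ M)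

include hQ hD hk

omit hk in
theorem aniso_of_large {l : Fin t} {W : Submodule F V} (hW : W ≤ D l)
    (h : k < 2 * Module.finrank F W) : ∃ x ∈ W, Q x ≠ 0 := by
  by_contra hc
  push Not at hc
  have hle : W ⊔ perpS Q (D l) ≤ perpS Q W := by
    refine sup_le (fun a ha b hb => ?_) fun a ha b hb => ha b (hW hb)
    simp only [polar, hc _ (W.add_mem hb ha), hc a ha, hc b hb, sub_zero]
  have h1 := Submodule.finrank_sup_add_finrank_inf_eq W (perpS Q (D l))
  have h0 : W ⊓ perpS Q (D l) = ⊥ := (Submodule.eq_bot_iff _).2 fun v hv =>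
    ND.eq_zero (hD.nd l) (hW hv.1) hv.2
  rw [h0, finrank_bot, add_zero] at h1
  have h2 := Submodule.finrank_mono hle
  have h3 := finrank_perpS hQ W
  have h4 := finrank_perpS hQ (D l)
  have := hD.dim l
  omega

/-- Every member is spanned by its anisotropic vectors. -/
theorem mem_of_aniso {l : Fin t} {P : Submodule F V} (h : ∀ v ∈ D l, Q v ≠ 0 → v ∈ P) :
    D l ≤ P := by
  intro v hv
  by_cases hQv : Q v = 0
  swap
  · exact h v hv hQv
  obtain ⟨w, ⟨hw, hwv⟩, hQw⟩ := aniso_of_large hQ hD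
    (W := D l ⊓ perpS Q (Submodule.span F {v})) inf_le_left (by
      have := ND.finrank_inf_perp_singleton hQ (D l) v
      have := hD.dim l
      omega)
  have hvw : polar Q v w = 0 := hwv v (Submodule.mem_span_singleton_self v)
  have := P.sub_mem (h (v + w) ((D l).add_mem hv hw) (by
    rwa [quad_add, hQv, hvw, zero_add, add_zero])) (h w hw hQw)
  rwa [add_sub_cancel_right] at this

include hex in
/-- A new member is seen obliquely by some anisotropic member vector. -/
theorem exists_oblique {g : oGroup Q} {m : Fin t} (hm : ∀ l, ∃ x ∈ D l, g.1 x ∉ D m) :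
    ∃ l, ∃ a ∈ D l, Q a ≠ 0 ∧ g.1 a ∉ D m ∧ pr hQ (dec_of_od hD) m (g.1 a) ≠ 0 := by
  classical
  set hD' := dec_of_od hD
  by_contra hc
  push Not at hc
  let U := (D m).comap g.1.toLinearMap
  let K := LinearMap.ker (pr hQ hD' m ∘ₗ g.1.toLinearMap)
  obtain ⟨l, hlK⟩ : ∃ l, ¬ D l ≤ K := by
    by_contra hall
    push Not at hall
    refine member_ne_bot hD' m ((Submodule.eq_bot_iff _).2 fun y hy => ?_)
    obtain ⟨x, rfl⟩ := g.1.surjective y
    rw [← pr_of_mem hQ hD' hy]
    exact (iSup_le hall : iSup D ≤ K) (by rw [hD.top]; trivial)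
  have hdich : ∀ v ∈ D l, Q v ≠ 0 → v ∈ U ∨ v ∈ K := fun v hv hQv => by
    by_cases h : g.1 v ∈ D m
    · exact Or.inl h
    · exact Or.inr (hc l v hv hQv h)
  have hUK : ∀ u ∈ U, ∀ w ∈ K, polar Q u w = 0 := fun u hu w hw => by
    rw [← polar_oGroup g, polar_comm]
    exact (pr_eq_zero_iff hQ hD').1 hw _ hu
  set A := D l ⊓ U
  set B := D l ⊓ K
  have hle : D l ≤ A ⊔ B := mem_of_aniso hQ hD hk fun v hv hQv => (hdich v hv hQv).elim
    (fun h => Submodule.mem_sup_left ⟨hv, h⟩) fun h => Submodule.mem_sup_right ⟨hv, h⟩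
  have hAB : ∀ v, v ∈ A → v ∈ B → v = 0 := fun v hA hB => by
    have h0 : pr hQ hD' m (g.1 v) = 0 := hB.2
    exact g.1.map_eq_zero_iff.1 ((pr_of_mem hQ hD' hA.2).symm.trans h0)
  have hnd : ∀ S T : Submodule F V, S ≤ D l → D l ≤ S ⊔ T →
      (∀ s ∈ S, ∀ u ∈ T, polar Q s u = 0) → ND Q S := by
    intro S T hS hST horth
    refine (Submodule.eq_bot_iff _).2 fun v hv => ND.eq_zero (hD.nd l) (hS hv.1) fun y hy => ?_
    obtain ⟨s, hs, u, hu, rfl⟩ := Submodule.mem_sup.1 (hST hy)
    rw [polar_add_left, hv.2 s hs, polar_comm, horth v hv.1 u hu, add_zero]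
  have hAn : ND Q A := hnd A B inf_le_left hle fun s hs u hu => hUK s hs.2 u hu.2
  have hBn : ND Q B := hnd B A inf_le_left (by rw [sup_comm]; exact hle) fun s hs u hu => by
    rw [polar_comm]; exact hUK u hu.2 s hs.2
  have hA0 : A ≠ ⊥ := fun h => hlK (le_trans hle (by rw [h, bot_sup_eq]; exact inf_le_right))
  have hB0 : B ≠ ⊥ := fun h => by
    obtain ⟨x, hx, hxm⟩ := hm l
    have := hle hx
    rw [h, sup_bot_eq] at this
    exact hxm this.2
  have mixed : ∀ a ∈ A, ∀ b ∈ B, a ≠ 0 → b ≠ 0 → Q (a + b) = 0 := by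
    intro a ha b hb ha0 hb0
    by_contra hne
    rcases hdich (a + b) ((D l).add_mem ha.1 hb.1) hne with h | h
    · have h1 := U.sub_mem h ha.2
      rw [add_sub_cancel_left] at h1
      exact hb0 (hAB b ⟨hb.1, h1⟩ hb)
    · have h1 := K.sub_mem h hb.2
      rw [add_sub_cancel_right] at h1
      exact ha0 (hAB a ha ⟨ha.1, h1⟩)
  have hsum : ∀ a ∈ A, ∀ b ∈ B, a ≠ 0 → b ≠ 0 → Q a + Q b = 0 := fun a ha b hb ha0 hb0 => by
    have := mixed a ha b hb ha0 hb0
    rwa [quad_add, hUK a ha.2 b hb.2, add_zero] at this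
  have anis : ∀ S : Submodule F V, ND Q S → S ≠ ⊥ → ∃ v ∈ S, Q v ≠ 0 := by
    intro S hS hS0
    by_contra hcc
    push Not at hcc
    obtain ⟨v, hv, hv0⟩ := Submodule.exists_mem_ne_zero_of_ne_bot hS0
    obtain ⟨y, hy, hvy⟩ := ND.partner hS hv hv0
    exact hvy (by rw [polar, hcc _ (S.add_mem hv hy), hcc v hv, hcc y hy]; ring)
  obtain ⟨a, ha, hQa⟩ := anis A hAn hA0
  obtain ⟨b, hb, hQb⟩ := anis B hBn hB0
  have hne : ∀ {v : V}, Q v ≠ 0 → v ≠ 0 := fun h e => h (by rw [e, map_zero])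
  -- two elements
  have hF : ∀ s : F, s = 0 ∨ s = 1 := fun s => by
    by_contra hs
    push Not at hs
    have h1 := hsum a ha b hb (hne hQa) (hne hQb)
    have h2 := hsum (s • a) (A.smul_mem s ha) b hb (smul_ne_zero hs.1 (hne hQa)) (hne hQb)
    rw [quad_smul] at h2
    have h3 : (s * s - 1) * Q a = 0 := by linear_combination h2 - h1
    rcases mul_self_eq_one_iff.1 (sub_eq_zero.1 ((mul_eq_zero.1 h3).resolve_right hQa)) with h | h
    · exact hs.2 h
    · exact hs.2 (by rw [h, CharTwo.neg_eq])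
  have hQ1 : ∀ {v : V}, Q v ≠ 0 → Q v = 1 := fun h => (hF _).resolve_left h
  have hAan : ∀ v ∈ A, v ≠ 0 → Q v ≠ 0 := fun v hv hv0 h => hQb (by
    have := hsum v hv b hb hv0 (hne hQb)
    rwa [h, zero_add] at this)
  have hBan : ∀ v ∈ B, v ≠ 0 → Q v ≠ 0 := fun v hv hv0 h => hQa (by
    have := hsum a ha v hv (hne hQa) hv0
    rwa [h, add_zero] at this)
  have hdim2 : ∀ S : Submodule F V, (∀ v ∈ S, v ≠ 0 → Q v ≠ 0) → Module.finrank F S ≤ 2 := by
    intro S hS
    by_contra h3
    obtain ⟨z, hz, hz0, hQz⟩ := exists_singular_of_three (Q := Q) S (by omega)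
    exact hS z hz hz0 hQz
  have hA2 := hdim2 A hAan
  have hB2 := hdim2 B hBan
  have hk4 : Module.finrank F (D l) ≤ Module.finrank F A + Module.finrank F B :=
    le_trans (Submodule.finrank_mono hle) (by
      have := Submodule.finrank_sup_add_finrank_inf_eq A B
      omega)
  rw [hD.dim l] at hk4
  have hcard : Nat.card F = 2 := by
    haveI := Fintype.ofFinite F
    rw [Nat.card_eq_fintype_card]
    refine le_antisymm ?_ Fintype.one_lt_card
    rw [← Finset.card_univ]
    exact le_trans (Finset.card_le_card (t := {0, 1}) fun s _ => by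
      simpa using hF s) Finset.card_le_two
  -- a totally singular plane
  obtain ⟨a', ha', haa⟩ := ND.partner hAn ha (hne hQa)
  obtain ⟨b', hb', hbb⟩ := ND.partner hBn hb (hne hQb)
  have ha'0 : a' ≠ 0 := fun h => haa (by rw [h, polar_zero_right])
  have hb'0 : b' ≠ 0 := fun h => hbb (by rw [h, polar_zero_right])
  have hpol : polar Q (a + b) (a' + b') = 0 := by
    simp only [polar_add_left, polar_add_right, hUK a ha.2 b' hb'.2,
      show polar Q b a' = 0 by rw [polar_comm]; exact hUK a' ha'.2 b hb.2,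
      (hF _).resolve_left haa, (hF _).resolve_left hbb, add_zero, zero_add, CharTwo.add_self_eq_zero]
  have hab : a + b ≠ 0 := fun h => hne hQa
    (hAB a ha (by rw [eq_neg_of_add_eq_zero_left h]; exact B.neg_mem hb))
  obtain ⟨s, hs⟩ := Submodule.mem_span_singleton.1 (hex (by omega) hcard l (a + b)
    ((D l).add_mem ha.1 hb.1) (a' + b') ((D l).add_mem ha'.1 hb'.1) hab
    (mixed a ha b hb (hne hQa) (hne hQb)) (mixed a' ha' b' hb' ha'0 hb'0) hpol)
  have hdiff : a' - s • a = s • b - b' := by linear_combination (norm := module) -hs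
  have h0 : a' - s • a = 0 := hAB _ (A.sub_mem ha' (A.smul_mem s ha))
    (by rw [hdiff]; exact B.sub_mem (B.smul_mem s hb) hb')
  rw [sub_eq_zero] at h0
  rw [h0, polar_smul_right, polar_self, two_nsmul, CharTwo.add_self_eq_zero, smul_zero] at haa
  exact haa rfl

include hn hM

/-- Outside the stabiliser there is a generating root element or a good vector. -/
theorem big_good (hle : ¬ M ≤ decompStab Q D) (hex' : k = 4 → Nat.card F = 2 → ∀ i, ∀ x ∈ D i,
      ∀ y ∈ D i, x ≠ 0 → Q x = 0 → Q y = 0 → polar Q x y = 0 → y ∈ Submodule.span F {x}) :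
    commutator (oGroup Q) ≤ M ∨ ∃ z, Good D M z ∧ ∀ l, z ∉ D l := by
  classical
  set hD' := dec_of_od hD
  have hn5 : 5 ≤ Module.finrank F V := by omega
  obtain ⟨g, hg, hgX⟩ := SetLike.not_le_iff_exists.1 hle
  obtain ⟨m, hm⟩ := exists_unmatched hQ hD' hgX
  obtain ⟨l, a, ha, hQa, hx, hxm⟩ := exists_oblique hQ hD hk hex' hm
  set x := g.1 a
  set u := pr hQ hD' m x
  have huD : u ∈ D m := pr_mem hQ hD' m x
  -- a second image not orthogonal to `u`
  obtain ⟨l', a', ha', hQa', huv⟩ : ∃ l', ∃ a' ∈ D l', Q a' ≠ 0 ∧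
      polar Q u (pr hQ hD' m (g.1 a')) ≠ 0 := by
    by_contra hc
    push Not at hc
    refine hxm (ND.eq_zero (hD.nd m) huD fun y hy => ?_)
    obtain ⟨z, rfl⟩ := g.1.surjective y
    rw [polar_comm, ← pr_of_mem hQ hD' hy]
    let P := LinearMap.ker (polarBilin Q u ∘ₗ pr hQ hD' m ∘ₗ g.1.toLinearMap)
    have hP : iSup D ≤ P := iSup_le fun l' => mem_of_aniso hQ hD hk fun v hv hQv => hc l' v hv hQv
    exact hP (by rw [hD.top]; trivial)
  set y := g.1 a'
  set v := pr hQ hD' m y
  have hvD : v ∈ D m := pr_mem hQ hD' m y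
  have hQx : Q x ≠ 0 := by rwa [g.2]
  have hrel : Rel M x y :=
    (Rel.member hQ hD' hn5 hM ha ha' hQa hQa' (isSquare_char_two _)).conj hg
  -- an anisotropic vector orthogonal to both
  set S := Submodule.span F (Set.range ![u, v])
  have hS : S ≤ D m := Submodule.span_le.2 (by rintro _ ⟨i, rfl⟩; fin_cases i <;> assumption)
  have hS2 : Module.finrank F S ≤ 2 := (finrank_range_le_card _).trans (by simp)
  obtain ⟨d, hd, hQd, hud, hvd⟩ : ∃ d ∈ D m, Q d ≠ 0 ∧ polar Q u d = 0 ∧ polar Q v d = 0 := by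
    have huu : ∀ w : V, polar Q w w = 0 := fun w => by
      rw [polar_self, two_nsmul, CharTwo.add_self_eq_zero]
    by_contra hc
    push Not at hc
    have hW : ∀ h ∈ D m, polar Q u h = 0 → polar Q v h = 0 → Q h = 0 := fun h hh h1 h2 => by
      by_contra hne
      exact hc h hh hne h1 h2
    obtain ⟨h, ⟨hh, hh'⟩, hh0⟩ := Submodule.exists_mem_ne_zero_of_ne_bot
      (p := D m ⊓ perpS Q S) (fun h => by
        have := ND.finrank_inf_perp hQ (D m) S
        rw [h, finrank_bot] at this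
        have := hD.dim m
        omega)
    have h1 : polar Q u h = 0 := hh' u (Submodule.subset_span ⟨0, rfl⟩)
    have h2 : polar Q v h = 0 := hh' v (Submodule.subset_span ⟨1, rfl⟩)
    have hnS : h ∉ S := fun hm' => by
      obtain ⟨r, hr⟩ := (Submodule.mem_span_range_iff_exists_fun F).1 hm'
      simp only [Fin.sum_univ_two, Matrix.cons_val_zero, Matrix.cons_val_one] at hr
      rw [← hr, polar_add_right, polar_smul_right, polar_smul_right, huu, smul_zero, zero_add,
        smul_eq_mul, mul_eq_zero] at h1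
      rw [← hr, polar_add_right, polar_smul_right, polar_smul_right, huu, smul_zero, add_zero,
        smul_eq_mul, polar_comm, mul_eq_zero] at h2
      refine hh0 ?_
      rw [← hr, h1.resolve_right huv, h2.resolve_right huv, zero_smul, zero_smul, add_zero]
    obtain ⟨z, hz, hzS, hhz⟩ := ND.partner_perp hQ (hD.nd m) hS hh hnS
    have z1 : polar Q u z = 0 := hzS u (Submodule.subset_span ⟨0, rfl⟩)
    have z2 : polar Q v z = 0 := hzS v (Submodule.subset_span ⟨1, rfl⟩)
    refine hhz ?_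
    have := hW (h + z) ((D m).add_mem hh hz) (by rw [polar_add_right, h1, z1, add_zero])
      (by rw [polar_add_right, h2, z2, add_zero])
    rw [quad_add, hW h hh h1 h2, hW z hz z1 z2, zero_add, zero_add] at this
    exact this
  -- a pair fixing `y` and moving `x`
  obtain ⟨c, hc, hQc, hvc, huc⟩ : ∃ c ∈ D m, Q c ≠ 0 ∧ polar Q v c = 0 ∧ polar Q u c ≠ 0 := by
    have hvv : polar Q v v = 0 := by rw [polar_self, two_nsmul, CharTwo.add_self_eq_zero]
    by_cases hQv : Q v = 0
    · refine ⟨v + d, (D m).add_mem hvD hd, by rwa [quad_add, hQv, hvd, zero_add, add_zero],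
        by rw [polar_add_right, hvv, hvd, add_zero], by rwa [polar_add_right, hud, add_zero]⟩
    · exact ⟨v, hvD, hQv, hvv, huv⟩
  set σ := refl Q c * refl Q d
  have hσ : σ ∈ M := Rel.member hQ hD' hn5 hM hc hd hQc hQd (isSquare_char_two _)
  have hσy : σ.1 y = y := by
    change (refl Q c).1 ((refl Q d).1 y) = y
    rw [refl_fix (show polar Q y d = 0 by rw [← polar_pr' hQ hD' hd]; exact hvd),
      refl_fix (show polar Q y c = 0 by rw [← polar_pr' hQ hD' hc]; exact hvc)]
  set δ := (-(Q c)⁻¹ * polar Q u c) • c with hδ_def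
  have hσx : σ.1 x = x + δ := by
    change (refl Q c).1 ((refl Q d).1 x) = _
    rw [refl_fix (show polar Q x d = 0 by rw [← polar_pr' hQ hD' hd]; exact hud), refl_apply,
      ← polar_pr' hQ hD' hc]
  have hQδ : Q δ ≠ 0 := by
    rw [hδ_def, quad_smul]
    have := mul_ne_zero (neg_ne_zero.2 (inv_ne_zero hQc)) huc
    exact mul_ne_zero (mul_ne_zero this this) hQc
  have hrel' : Rel M x (x + δ) := by
    have h1 := hrel.conj hσ
    rw [hσx, hσy] at h1
    exact hrel.trans h1.symm
  obtain ⟨hz, hQz⟩ := Rel.refl_diff hQx hQδ (by rw [← hσx, σ.2]) hrel'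
  have hδD : δ ∈ D m := (D m).smul_mem _ hc
  refine Or.inr ⟨_, ⟨by rwa [hQz], m, δ, hδD, hQδ, isSquare_char_two _, hz⟩, fun i hi => ?_⟩
  obtain ⟨j, hjm, hj⟩ : ∃ j, j ≠ m ∧ pr hQ hD' j x ≠ 0 := by
    by_contra hcc
    push Not at hcc
    exact hx (mem_of_pr hQ hD' hcc)
  have hco : Q δ / Q x ≠ 0 := div_ne_zero hQδ hQx
  have hij : i = j := by
    by_contra hne
    have h0 := pr_of_mem_ne hQ hD' (Ne.symm hne) hi
    rw [map_add, pr_of_mem_ne hQ hD' hjm hδD, map_smul, zero_add] at h0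
    exact smul_ne_zero hco hj h0
  subst hij
  have h0 := pr_of_mem_ne hQ hD' hjm.symm hi
  rw [map_add, pr_of_mem hQ hD' hδD, map_smul] at h0
  have hσu : σ.1 u = u + δ := by
    change (refl Q c).1 ((refl Q d).1 u) = _
    rw [refl_fix hud, refl_apply]
  have h2 : (1 - Q δ / Q x) * (1 - Q δ / Q x) * Q u = Q u := by
    rw [← quad_smul, show (1 - Q δ / Q x) • u = σ.1 u by
      rw [hσu]; linear_combination (norm := module) -h0, σ.2]
  have hQu : Q u ≠ 0 := fun h => hQδ (by
    rw [eq_neg_of_add_eq_zero_left h0, QuadraticMap.map_neg, quad_smul, h, mul_zero])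
  rcases mul_self_eq_one_iff.1 ((mul_eq_right₀ hQu).1 h2) with h3 | h3
  · exact hco (by linear_combination -h3)
  · exact hco (by rw [CharTwo.neg_eq] at h3; linear_combination -h3)

/-- A good vector outside the members generates. -/
theorem big_le_of_good {z : V} (hz : Good D M z) (hzD : ∀ l, z ∉ D l) :
    commutator (oGroup Q) ≤ M := by
  classical
  set hD' := dec_of_od hD
  have hn5 : 5 ≤ Module.finrank F V := by omega
  obtain ⟨m, hm⟩ : ∃ m, Q (pr hQ hD' m z) ≠ 0 := by
    by_contra hc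
    push Not at hc
    exact hz.1 (by rw [quad_pr hQ hD' z]; exact Finset.sum_eq_zero fun i _ => hc i)
  obtain ⟨j, hjm, hj⟩ : ∃ j, j ≠ m ∧ pr hQ hD' j z ≠ 0 := by
    by_contra hc
    push Not at hc
    exact hzD m (mem_of_pr hQ hD' hc)
  set u := pr hQ hD' m z
  have huD : u ∈ D m := pr_mem hQ hD' m z
  obtain ⟨f, ⟨hf, hfu⟩, hf0, hQf⟩ := exists_singular_of_three (Q := Q)
    (D m ⊓ perpS Q (Submodule.span F {u})) (by
      have := ND.finrank_inf_perp_singleton hQ (D m) u
      have := hD.dim m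
      change 3 ≤ Module.finrank F ↥(D m ⊓ perpS Q (Submodule.span F {u}))
      omega)
  have huf : polar Q u f = 0 := hfu u (Submodule.mem_span_singleton_self u)
  have hun : u ∉ Submodule.span F {f} := fun h => by
    obtain ⟨s, hs⟩ := Submodule.mem_span_singleton.1 h
    exact hm (by rw [← hs, quad_smul, hQf, mul_zero])
  obtain ⟨b, hb, hbf, hub⟩ := ND.partner_perp hQ (hD.nd m)
    ((Submodule.span_singleton_le_iff_mem _ _).2 hf) huD hun
  have hfb : polar Q f b = 0 := hbf f (Submodule.mem_span_singleton_self f)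
  have hσM := member_siegel_mem hQ hD hn hM hf hb hQf hfb
  have hgood := Good.map hQ hD' hn5 hM hσM (siegel_mem_decompStab hQ hD hf hb hQf hfb) hz
  have hzf : polar Q z f = 0 := by rw [← polar_pr' hQ hD' hf]; exact huf
  have himg : (siegel Q f b).1 z = z + (-polar Q z b) • f := by
    rw [siegel_apply hQf hfb, hzf]; module
  rw [himg] at hgood
  have hfz : polar Q f z = 0 := by rw [polar_comm]; exact hzf
  have h := Rel.siegel_mem hz.1 hQf hfz (Good.trans hQ hD' hn5 hM hz hgood
    (isSquare_char_two _))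
  refine le_of_missing hQ hD hn hM (m := j) hf0 hQf (cp_of_mem_ne hQ hD hjm hf)
    (by rw [polar_smul_right, hfz, smul_zero]) ?_ h
  rw [map_smul]
  refine smul_ne_zero (div_ne_zero (neg_ne_zero.2 ?_) hz.1) hj
  rw [← polar_pr' hQ hD' hb]; exact hub

omit hM

include hex in
theorem big_maximal : Cfsg.Geo.IsMaximalIn (commutator (oGroup Q))
    (decompStab Q D ⊓ commutator (oGroup Q)) := by
  refine ⟨lt_of_le_of_ne inf_le_right fun e => decomp_proper hQ hD hn (e.ge.trans inf_le_left),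
    fun M hM hMK => ?_⟩
  by_cases h : M ≤ decompStab Q D
  · exact Or.inl (le_antisymm (le_inf h hMK) hM)
  · refine Or.inr (le_antisymm hMK ?_)
    rcases big_good hQ hD hk hn hM h hex with h1 | ⟨z, hz, hzD⟩
    · exact h1
    · exact big_le_of_good hQ hD hk hn hM hz hzD

end CfsgLib.Geo.OD2
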