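import Cfsg.Agent.Geo.OrthDec2.Plane

/-!
A non-trivial additive subgroup of a plane member invariant under its reflections is the whole member.
-/

set_option autoImplicit false
set_option linter.unusedSectionVars false

namespace CfsgLib.Geo.OD2

open QuadraticMap CfsgLib.Forms CfsgLib.Quad CfsgLib.Geo.OS

variable {F V : Type*} [Field F] [AddCommGroup V] [Module F V] [FiniteDimensional F V] [Finite F]
  {Q : QuadraticForm F V} {t : ℕ} (hQ : (polarBilin Q).Nondegenerate)
  {D : Fin t → Submodule F V} (hD : Dec2 Q D)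

include hQ hD

omit hQ in
/-- Reflections of a member act transitively on its vectors of a given non-zero value. -/
theorem refl_orbit {l : Fin t} {u x : V} (hu : u ∈ D l) (hx : x ∈ D l) (hQu : Q u ≠ 0)
    (h : Q x = Q u) : x = u ∨ (Q (x - u) ≠ 0 ∧ (refl Q (x - u)).1 u = x) := by
  rcases eq_or_ne x u with rfl | hne
  · exact Or.inl rfl
  refine Or.inr ?_
  have hq : Q (x - u) ≠ 0 := fun h0 => by
    have h1 := quad_add Q u (x - u)
    rw [add_sub_cancel, h, h0] at h1
    exact perp_aniso hD hu ((D l).sub_mem hx hu) hQu (by linear_combination -h1)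
      (sub_ne_zero.2 hne) h0
  exact ⟨hq, refl_map h.symm hq⟩

theorem refl_fill {l : Fin t} (P : AddSubgroup V)
    (hinv : ∀ c ∈ D l, Q c ≠ 0 → ∀ x ∈ P, x ∈ D l → (refl Q c).1 x ∈ P)
    {a : V} (ha : a ∈ P) (haD : a ∈ D l) (ha0 : a ≠ 0) : ∀ x ∈ D l, x ∈ P := by
  classical
  haveI := Fintype.ofFinite F
  obtain ⟨v0, hv0, hQv0⟩ := exists_aniso_mem hD.dec l
  -- an anisotropic element
  obtain ⟨u, hu, huD, hQu⟩ : ∃ u ∈ P, u ∈ D l ∧ Q u ≠ 0 := by
    by_cases hQa : Q a = 0
    swap
    · exact ⟨a, ha, haD, hQa⟩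
    obtain ⟨c, hc, hQc, -, hac⟩ := exists_avoid hD (w := v0) hv0 hQv0 haD ha0
    have hQc0 : Q c ≠ 0 := by rwa [hQc]
    refine ⟨(refl Q c).1 a - a, sub_mem (hinv c hc hQc0 a ha haD) ha, ?_, ?_⟩ <;>
      rw [refl_apply, add_sub_cancel_left]
    · exact (D l).smul_mem _ hc
    · rw [quad_smul]
      have := mul_ne_zero (neg_ne_zero.2 (inv_ne_zero hQc0)) hac
      exact mul_ne_zero (mul_ne_zero this this) hQc0
  have hcirc : ∀ x ∈ D l, Q x = Q u → x ∈ P := fun x hx h => by
    rcases refl_orbit hD huD hx hQu h with rfl | ⟨hq, hr⟩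
    · exact hu
    · rw [← hr]; exact hinv _ ((D l).sub_mem hx huD) hq u hu huD
  -- multiples of one vector
  have hfull : ∀ w ∈ D l, (∀ s : F, s • w ∈ P) → ∀ w' ∈ D l, (∀ s : F, s • w' ∈ P) →
      w ≠ 0 → w' ∉ Submodule.span F {w} → ∀ x ∈ D l, x ∈ P := by
    intro w hw h w' hw' h' hw0 hn x hx
    obtain ⟨p, q, rfl⟩ := exists_coord hD hw hw' hw0 hn hx
    exact add_mem (h p) (h' q)
  by_cases hsing : ∀ x ∈ D l, Q x = 0 → x = 0
  · have hline : ∀ w ∈ D l, w ≠ 0 → ∀ s : F, s • w ∈ P := by
      intro w hw hw0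
      have hQw : Q w ≠ 0 := fun h => hw0 (hsing w hw h)
      obtain ⟨C, hC, -, hCq⟩ := exists_circle hD huD hQu
      obtain ⟨v, ⟨hv, hvw⟩, hv0⟩ := Submodule.exists_mem_ne_zero_of_ne_bot
        (p := D l ⊓ perpS Q (Submodule.span F {w})) (fun h => by
          have := ND.finrank_inf_perp_singleton hQ (D l) w
          rw [h, finrank_bot] at this
          have := hD.dec.dim l
          omega)
      replace hvw := hvw w (Submodule.mem_span_singleton_self w)
      have hQv : Q v ≠ 0 := fun h => hv0 (hsing v hv h)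
      let B : AddSubgroup F := P.comap (LinearMap.toSpanSingleton F V w).toAddMonoidHom
      have hB : ∀ x ∈ C, -(Q w)⁻¹ * polar Q x w ∈ B := fun x hx => by
        have h1 := sub_mem (hinv w hw hQw x (hcirc x (hC x hx).1 (hC x hx).2) (hC x hx).1)
          (hcirc x (hC x hx).1 (hC x hx).2)
        rw [refl_apply, add_sub_cancel_left] at h1
        exact h1
      have hle : C.card ≤ 2 * (C.image fun x => -(Q w)⁻¹ * polar Q x w).card := by
        refine Finset.card_le_mul_card_image C 2 fun y hy => ?_
        obtain ⟨x, hx, rfl⟩ := Finset.mem_image.1 hy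
        refine le_trans (Finset.card_le_card (t := {x, x + (-(polar Q x v) / Q v) • v})
          fun x' hx' => ?_) Finset.card_le_two
        simp only [Finset.mem_filter] at hx'
        obtain ⟨hx', heq⟩ := hx'
        have hp : polar Q w (x' - x) = 0 := by
          rw [polar_comm, polar_sub_left, sub_eq_zero]
          exact mul_left_cancel₀ (neg_ne_zero.2 (inv_ne_zero hQw)) heq
        obtain ⟨s, hs⟩ := Submodule.mem_span_singleton.1
          (perp_mem hD hw hw0 hv hv0 ((D l).sub_mem (hC x' hx').1 (hC x hx).1) hvw hp)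
        obtain rfl : x' = x + s • v := by rw [hs]; abel
        have hQ' := (hC _ hx').2
        rw [quad_add, quad_smul, polar_smul_right, (hC x hx).2, smul_eq_mul] at hQ'
        have h2 : s * (s * Q v + polar Q x v) = 0 := by linear_combination hQ'
        simp only [Finset.mem_insert, Finset.mem_singleton]
        rcases mul_eq_zero.1 h2 with h | h
        · exact Or.inl (by rw [h, zero_smul, add_zero])
        · refine Or.inr ?_
          rw [show s = -(polar Q x v) / Q v by field_simp; linear_combination h]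
      have hsub : (C.image fun x => -(Q w)⁻¹ * polar Q x w) ⊆
          (Finset.univ : Finset F).filter (· ∈ B) := fun y hy => by
        obtain ⟨x, hx, rfl⟩ := Finset.mem_image.1 hy
        exact Finset.mem_filter.2 ⟨Finset.mem_univ _, hB x hx⟩
      have htop : B = ⊤ := by
        have h1 := Finset.card_le_card hsub
        have hcB : ((Finset.univ : Finset F).filter (· ∈ B)).card = Nat.card B := by
          rw [Nat.card_eq_fintype_card]; exact (Fintype.card_subtype _).symm
        have h3 := hCq hsing
        have h4 := B.card_mul_index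
        rw [← AddSubgroup.index_eq_one]
        by_contra hne
        have h5 : 2 ≤ B.index := by
          have h6 : B.index ≠ 0 := fun h0 => by
            rw [h0, mul_zero] at h4
            have := Nat.card_pos (α := F)
            omega
          omega
        nlinarith [Nat.mul_le_mul_left (Nat.card B) h5]
      intro s
      exact (htop ▸ AddSubgroup.mem_top s : s ∈ B)
    obtain ⟨w', hw', hn⟩ : ∃ w' ∈ D l, w' ∉ Submodule.span F {u} := by
      obtain ⟨c, hc, -, hcu, -⟩ := exists_avoid hD (w := u) hv0 hQv0 huD (ne_zero_of_aniso hD hQu)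
      exact ⟨c, hc, hcu⟩
    exact hfull u huD (hline u huD (ne_zero_of_aniso hD hQu)) w' hw'
      (hline w' hw' fun h => hn (by rw [h]; exact Submodule.zero_mem _))
      (ne_zero_of_aniso hD hQu) hn
  · push Not at hsing
    obtain ⟨e, he, hQe, he0⟩ := hsing
    have h7 : 7 ≤ Fintype.card F := by
      rw [← Nat.card_eq_fintype_card]
      exact (hD.field l).resolve_left fun h => he0 (h.1 e he hQe)
    have hsm : ∀ e f : V, e ∈ D l → f ∈ D l → Q e = 0 → Q f = 0 → polar Q e f = 1 →
        ∀ s : F, s • f ∈ P := by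
      intro e f he hf hQe hQf hef s
      rcases eq_or_ne s 0 with rfl | hs
      · rw [zero_smul]; exact zero_mem _
      obtain ⟨r, hr⟩ : ∃ r : F, ∀ z, z * z + z + 1 = 0 → z = r ∨ z = -1 - r := by
        by_cases h : ∃ z : F, z * z + z + 1 = 0
        · obtain ⟨r, hr⟩ := h
          refine ⟨r, fun z hz => ?_⟩
          rcases mul_eq_zero.1 (show (z - r) * (z + r + 1) = 0 by linear_combination hz - hr) with h | h
          · exact Or.inl (sub_eq_zero.1 h)
          · exact Or.inr (by linear_combination h)
        · exact ⟨0, fun z hz => absurd ⟨z, hz⟩ h⟩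
      obtain ⟨z, -, hz⟩ := Finset.exists_mem_notMem_of_card_lt_card
        (s := ({0, -1, r, -1 - r} : Finset F)) (t := Finset.univ)
        (lt_of_le_of_lt Finset.card_le_four (by rw [Finset.card_univ]; omega))
      simp only [Finset.mem_insert, Finset.mem_singleton, not_or] at hz
      obtain ⟨hz0, hz1, hzr, hzr'⟩ := hz
      have hzz : z * z + z + 1 ≠ 0 := fun h => (hr z h).elim hzr hzr'
      have hz1' : 1 + z ≠ 0 := fun h => hz1 (by linear_combination h)
      set μ := Q u * (z * z + z + 1) / (s * (z * (1 + z))) with hμ_def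
      have hμ : μ ≠ 0 := div_ne_zero (mul_ne_zero hQu hzz) (mul_ne_zero hs (mul_ne_zero hz0 hz1'))
      have hx : ∀ m : F, m ≠ 0 → m • e + (Q u / m) • f ∈ P := fun m hm =>
        hcirc _ ((D l).add_mem ((D l).smul_mem _ he) ((D l).smul_mem _ hf)) (by
          rw [quad_add, quad_smul, quad_smul, hQe, hQf, polar_smul_left, polar_smul_right, hef]
          simp only [smul_eq_mul]
          field_simp
          ring)
      have := sub_mem (add_mem (hx μ hμ) (hx (μ * z) (mul_ne_zero hμ hz0)))
        (hx (μ * (1 + z)) (mul_ne_zero hμ hz1'))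
      have hμe : μ * (s * (z * (1 + z))) = Q u * (z * z + z + 1) :=
        div_mul_cancel₀ _ (mul_ne_zero hs (mul_ne_zero hz0 hz1'))
      have key : Q u / μ + Q u / (μ * z) - Q u / (μ * (1 + z)) = s := by
        field_simp
        linear_combination -hμe
      convert this using 1
      rw [← key]
      module
    obtain ⟨f0, hf0, hQf0, hef0⟩ := ND.singular_partner (hD.dec.nd l) he he0 hQe
    set f := (polar Q e f0)⁻¹ • f0 with hf_def
    have hf : f ∈ D l := (D l).smul_mem _ hf0
    have hQf : Q f = 0 := by rw [hf_def, quad_smul, hQf0, mul_zero]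
    have hef : polar Q e f = 1 := by
      rw [hf_def, polar_smul_right, smul_eq_mul, inv_mul_cancel₀ hef0]
    refine hfull e he (hsm f e hf he hQf hQe (by rwa [polar_comm])) f hf (hsm e f he hf hQe hQf hef)
      he0 fun h => ?_
    obtain ⟨s, hs⟩ := Submodule.mem_span_singleton.1 h
    rw [← hs, polar_smul_right, polar_self, hQe] at hef
    simp at hef

end CfsgLib.Geo.OD2
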