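import Cfsg.Agent.Geo.OrthDec2.End
import Cfsg.Agent.Geo.OrthDec2.Fill

/-!
A root element centred at a singular vector supported on two plane members generates.
-/

set_option autoImplicit false
set_option linter.unusedSectionVars false

namespace CfsgLib.Geo.OD2

open QuadraticMap CfsgLib.Forms CfsgLib.Quad CfsgLib.Geo.OS

variable {F V : Type*} [Field F] [AddCommGroup V] [Module F V] [FiniteDimensional F V] [Finite F]
  {Q : QuadraticForm F V} {t : ℕ} {D : Fin t → Submodule F V}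
  (hQ : (polarBilin Q).Nondegenerate) (hD : Dec2 Q D)
  (hn : 5 ≤ Module.finrank F V) {M : Subgroup (oGroup Q)}
  (hM : decompStab Q D ⊓ commutator (oGroup Q) ≤ M)

omit hQ in
include hD in
/-- Some member avoids four given ones. -/
theorem exists_other_four (S : Finset (Fin t)) (h : S.card ≤ 4) : ∃ p : Fin t, p ∉ S := by
  obtain ⟨p, -, hp⟩ := Finset.exists_mem_notMem_of_card_lt_card
    (s := S) (t := Finset.univ) (by
      rw [Finset.card_univ, Fintype.card_fin]
      have := hD.five; omega)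
  exact ⟨p, hp⟩

include hQ hD hn hM

/-- A root space with a component in a member contains that member, hence all members off the centre. -/
theorem members_le {i j l : Fin t} {δ : V} (hQδ : Q δ = 0)
    (hδ : ∀ r, r ≠ i → r ≠ j → pr hQ hD.dec r δ = 0) (hli : l ≠ i) (hlj : l ≠ j) {a : V}
    (hδa : polar Q δ a = 0) (hal : pr hQ hD.dec l a ≠ 0) (h : siegel Q δ a ∈ M) :
    ∀ r, r ≠ i → r ≠ j → D r ≤ rootSpace M hQδ := by
  classical
  have hperp : ∀ r, r ≠ i → r ≠ j → ∀ x ∈ D r, polar Q δ x = 0 := fun r hri hrj x hx =>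
    (pr_eq_zero_iff hQ hD.dec).1 (hδ r hri hrj) x hx
  obtain ⟨σ, hσ, -, hσfix, hσu, hσne, -, -⟩ :=
    exists_rot hQ hD hn hM (pr_mem hQ hD.dec l a) hal
  obtain ⟨-, hbM⟩ := root_move hQδ hδa hσ (hσfix δ (hδ l hli hlj)) h
  have hb : σ.1 a - a = σ.1 (pr hQ hD.dec l a) - pr hQ hD.dec l a := by
    have h1 := hσfix (a - pr hQ hD.dec l a)
      (by rw [map_sub, pr_of_mem hQ hD.dec (pr_mem hQ hD.dec l a), sub_self])
    rw [map_sub, sub_eq_iff_eq_add] at h1
    rw [h1]; abel
  rw [hb] at hbM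
  let P : AddSubgroup V :=
    { carrier := {x | x ∈ D l ∧ siegel Q δ x ∈ M}
      zero_mem' := ⟨(D l).zero_mem, by rw [siegel_zero hQδ]; exact one_mem _⟩
      add_mem' := fun {x y} hx hy => ⟨(D l).add_mem hx.1 hy.1, by
        rw [← siegel_mul hQδ (hperp l hli hlj x hx.1) (hperp l hli hlj y hy.1)]
        exact mul_mem hx.2 hy.2⟩
      neg_mem' := fun {x} hx => ⟨(D l).neg_mem hx.1, by
        rw [← siegel_inv hQδ (hperp l hli hlj x hx.1)]; exact inv_mem hx.2⟩ }
  have hall := refl_fill hQ hD (l := l) P (fun c hc hQc x hx hxl => by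
    obtain ⟨p, hp⟩ := exists_other_four hD {i, j, l} (by grind)
    simp only [Finset.mem_insert, Finset.mem_singleton, not_or] at hp
    obtain ⟨hpi, hpj, hpl⟩ := hp
    obtain ⟨g, hg, -, hgfix, -⟩ := corr_mem hQ hD.dec hn hM p (refl_mem_stab hQ hD.dec hc)
    have := siegel_conj_mem hg hQδ (hperp l hli hlj x hxl) hx.2
    rw [hgfix δ (hδ p hpi hpj), hgfix x (pr_of_mem_ne hQ hD.dec hpl hxl),
      refl_fix (hperp l hli hlj c hc)] at this
    exact ⟨by rw [refl_apply]; exact (D l).add_mem hxl ((D l).smul_mem _ hc), this⟩)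
    (a := σ.1 (pr hQ hD.dec l a) - pr hQ hD.dec l a)
    ⟨(D l).sub_mem hσu (pr_mem hQ hD.dec l a), hbM⟩ ((D l).sub_mem hσu (pr_mem hQ hD.dec l a))
    (sub_ne_zero.2 hσne)
  have hl : D l ≤ rootSpace M hQδ := fun x hx =>
    ⟨hperp l hli hlj x hx, fun s => (hall (s • x) ((D l).smul_mem s hx)).2⟩
  intro r hri hrj
  rcases eq_or_ne r l with rfl | hrl
  · exact hl
  intro y hy
  obtain ⟨s, hs, -, hsr, hinv, hsfix⟩ := exists_swap hQ hD.dec hrl.symm
  obtain ⟨p, hp⟩ := exists_other_four hD {i, j, l, r} (le_trans Finset.card_le_four (by omega))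
  simp only [Finset.mem_insert, Finset.mem_singleton, not_or] at hp
  obtain ⟨hpi, hpj, hpl, hpr⟩ := hp
  obtain ⟨g, hg, -, hgfix, -⟩ := corr_mem hQ hD.dec hn hM p hs
  refine ⟨hperp r hri hrj y hy, fun c => ?_⟩
  have hx : s.1 (c • y) ∈ D l := hsr _ ((D r).smul_mem c hy)
  have := siegel_conj_mem hg hQδ (hperp l hli hlj _ hx) (rootSpace.self_mem (hl hx))
  rwa [hgfix δ (hδ p hpi hpj), hgfix _ (pr_of_mem_ne hQ hD.dec hpl hx), hinv,
    hsfix δ (hδ l hli hlj) (hδ r hri hrj)] at this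

/-- Good vectors along the centre of a root space. -/
theorem good_add {δ : V} (hQδ : Q δ = 0) {r : Fin t} {e : V} (he : e ∈ D r) (hQe : Q e ≠ 0)
    (h : e ∈ rootSpace M hQδ) (s : F) : Good D M (e + s • δ) := by
  rcases eq_or_ne s 0 with rfl | hs
  · rw [zero_smul, add_zero]; exact Good.member hQ hD.dec hn hM he hQe
  set c := s / Q e with hc_def
  have hc : c ≠ 0 := div_ne_zero hs hQe
  have hea : polar Q δ (c • e) = 0 := by rw [polar_smul_right, h.1, smul_zero]
  have hQce : Q (c • e) ≠ 0 := by rw [quad_smul]; exact mul_ne_zero (mul_ne_zero hc hc) hQe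
  have h1 := Rel.of_siegel hQce hQδ hea (h.2 c)
  rw [show c • e + Q (c • e) • δ = c • (e + s • δ) by
    rw [quad_smul, smul_add, smul_smul, hc_def]; congr 2; field_simp,
    Rel.smul_left hc] at h1
  have h2 := h1.symm
  rw [Rel.smul_left hc] at h2
  have hQ' : Q (e + s • δ) = Q e := by
    rw [quad_add, quad_smul, hQδ, polar_smul_right, polar_comm, h.1]; simp
  exact Good.of_rel hQ hD.dec hn hM (by rwa [hQ']) (by rw [hQ']; exact IsSquare.mul_self _) h2
    (Good.member hQ hD.dec hn hM he hQe)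

/-- The orthogonal vector in a member of the centre lies in the root space. -/
theorem perp_mem_root {i j : Fin t} (hij : i ≠ j) {di dj : V} (hdi : di ∈ D i) (hdj : dj ∈ D j)
    (hQdi : Q di ≠ 0) (hQδ : Q (di + dj) = 0)
    (hX : ∀ r, r ≠ i → r ≠ j → D r ≤ rootSpace M hQδ) {a : V} (ha : a ∈ D i) (hQa : Q a ≠ 0)
    (hda : polar Q di a = 0) : a ∈ rootSpace M hQδ := by
  classical
  obtain ⟨p, hp⟩ := exists_other_four hD {i, j} (le_trans Finset.card_le_two (by omega))
  obtain ⟨r1, hr1⟩ := exists_other_four hD {i, j, p} (by grind)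
  obtain ⟨r2, hr2⟩ := exists_other_four hD {i, j, p, r1} (le_trans Finset.card_le_four (by omega))
  simp only [Finset.mem_insert, Finset.mem_singleton, not_or] at hp hr1 hr2
  obtain ⟨hpi, hpj⟩ := hp
  obtain ⟨h1i, h1j, h1p⟩ := hr1
  obtain ⟨h2i, h2j, h2p, h21⟩ := hr2
  obtain ⟨s1, hs1, hs1i, -, -, hs1fix⟩ := exists_swap hQ hD.dec (Ne.symm h1i)
  obtain ⟨s2, hs2, hs2j, -, -, hs2fix⟩ := exists_swap hQ hD.dec (Ne.symm h2j)
  obtain ⟨s3, hs3, -, hs3i, hs3inv, hs3fix⟩ := exists_swap hQ hD.dec hpi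
  set e := s3.1 a
  have he : e ∈ D p := hs3i a ha
  have hQe : Q e ≠ 0 := by rwa [s3.2]
  have hz : ∀ {x : V} {m m' : Fin t}, x ∈ D m → m' ≠ m → pr hQ hD.dec m' x = 0 :=
    fun hx hne => pr_of_mem_ne hQ hD.dec hne hx
  set g := s3 * (s2 * s1)
  have hgS : g ∈ decompStab Q D := mul_mem hs3 (mul_mem hs2 hs1)
  have hge : g.1 e = a := by
    change s3.1 (s2.1 (s1.1 e)) = a
    rw [hs1fix e (hz he (Ne.symm hpi)) (hz he h1p), hs2fix e (hz he (Ne.symm hpj)) (hz he h2p), hs3inv]
  have hgi : g.1 di ∈ D r1 := by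
    change s3.1 (s2.1 (s1.1 di)) ∈ D r1
    have h := hs1i di hdi
    rw [hs2fix _ (hz h (Ne.symm h1j)) (hz h h21), hs3fix _ (hz h (Ne.symm h1p)) (hz h (Ne.symm h1i))]
    exact h
  have hgj : g.1 dj ∈ D r2 := by
    change s3.1 (s2.1 (s1.1 dj)) ∈ D r2
    rw [hs1fix _ (hz hdj hij) (hz hdj h1j)]
    have h := hs2j dj hdj
    rw [hs3fix _ (hz h (Ne.symm h2p)) (hz h (Ne.symm h2i))]
    exact h
  obtain ⟨h, hh, hhS, hhfix, -⟩ := corr_mem hQ hD.dec hn hM r1 hgS
  set δ' := g.1 di + g.1 dj with hδ'_def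
  have hw : h.1 (e + (1 : F) • (di + dj)) = a + δ' := by
    rw [one_smul, hhfix _ (by rw [map_add, map_add, hz he h1p, hz hdi h1i, hz hdj h1j]; simp),
      map_add, map_add, hge]
  have hgood := Good.map hQ hD.dec hn hM hh hhS
    (good_add hQ hD hn hM hQδ he hQe (hX p hpi hpj he) (1 : F))
  rw [hw] at hgood
  have hperpδ' : ∀ x ∈ D i, polar Q x δ' = 0 := fun x hx => by
    rw [hδ'_def, polar_add_right, hD.dec.orth i r1 (Ne.symm h1i) x hx _ hgi,
      hD.dec.orth i r2 (Ne.symm h2i) x hx _ hgj, add_zero]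
  have hδ'0 : Q δ' = 0 := by rw [hδ'_def, ← map_add, g.2]; exact hQδ
  have hQw : Q (a + δ') = Q a := by
    rw [quad_add, hδ'0, hperpδ' a ha]; simp
  have hrel : Rel M a (a + δ') := Good.trans hQ hD.dec hn hM (Good.member hQ hD.dec hn hM ha hQa)
    hgood (by rw [hQw]; exact IsSquare.mul_self _)
  have hδa : polar Q (di + dj) a = 0 := by
    rw [polar_add_left, hda, hD.dec.orth j i hij.symm dj hdj a ha, add_zero]
  have hδδ' : polar Q (di + dj) δ' = 0 := by
    rw [hδ'_def]
    simp only [polar_add_left, polar_add_right, hD.dec.orth i r1 (Ne.symm h1i) di hdi _ hgi,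
      hD.dec.orth i r2 (Ne.symm h2i) di hdi _ hgj, hD.dec.orth j r1 (Ne.symm h1j) dj hdj _ hgi,
      hD.dec.orth j r2 (Ne.symm h2j) dj hdj _ hgj, add_zero]
  have hfix : (refl Q a * refl Q (a + δ')).1 (di + dj) = di + dj := by
    change (refl Q a).1 ((refl Q (a + δ')).1 (di + dj)) = _
    rw [refl_fix (show polar Q (di + dj) (a + δ') = 0 by rw [polar_add_right, hδa, hδδ', add_zero]), refl_fix hδa]
  obtain ⟨x, hx, hgx⟩ := ND.partner (hD.dec.nd r1) hgi (fun h0 => ne_zero_of_aniso hD hQdi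
    (g.1.map_eq_zero_iff.1 h0))
  have hxa : polar Q x a = 0 := hD.dec.orth r1 i h1i x hx a ha
  have hxd : polar Q x δ' ≠ 0 := by
    rw [hδ'_def, polar_add_right, hD.dec.orth r1 r2 (Ne.symm h21) x hx _ hgj, add_zero, polar_comm]
    exact hgx
  have hmove := rootSpace.move hrel hfix (hX r1 h1i h1j hx)
  have himg : (refl Q a * refl Q (a + δ')).1 x - x = (-(Q a)⁻¹ * polar Q x δ') • (δ' - a) := by
    change (refl Q a).1 ((refl Q (a + δ')).1 x) - x = _
    rw [refl_apply (a + δ'), hQw, polar_add_right, hxa, zero_add, map_add, map_smul, map_add,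
      refl_self hQa, refl_fix hxa, refl_fix (by rw [polar_comm]; exact hperpδ' a ha)]
    module
  rw [himg] at hmove
  have h3 := (Submodule.smul_mem_iff _
    (mul_ne_zero (neg_ne_zero.2 (inv_ne_zero hQa)) hxd)).1 hmove
  have h4 : δ' ∈ rootSpace M hQδ := Submodule.add_mem _ (hX r1 h1i h1j hgi) (hX r2 h2i h2j hgj)
  have := Submodule.sub_mem _ h4 h3
  rwa [sub_sub_cancel] at this

/-- In characteristic two a second vector over the centre lies in the root space. -/
theorem extra_mem_root (h2 : (2 : F) = 0) {i j : Fin t} (hij : i ≠ j) {di dj : V} (hdi : di ∈ D i)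
    (hdj : dj ∈ D j) (hQdi : Q di ≠ 0) (hQdj : Q dj = Q di) (hQδ : Q (di + dj) = 0)
    (hX : ∀ r, r ≠ i → r ≠ j → D r ≤ rootSpace M hQδ) :
    ∃ c c', c ∈ D i ∧ c' ∈ D j ∧ c ∉ Submodule.span F {di} ∧ c' ∉ Submodule.span F {dj} ∧
      polar Q di c ≠ 0 ∧ polar Q dj c' = polar Q di c ∧
      ((di + dj) ∈ rootSpace M hQδ → c + c' ∈ rootSpace M hQδ) := by
  classical
  haveI : CharP F 2 := CharTwo.of_one_ne_zero_of_two_eq_zero one_ne_zero h2
  obtain ⟨φ, hφ⟩ := hD.dec.iso i j
  set u : V := (φ ⟨di, hdi⟩ : V)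
  have hu : u ∈ D j := (φ _).2
  have hQu : Q u = Q di := hφ _
  obtain ⟨ρ, hρ, hρu⟩ : ∃ ρ : oGroup Q, (∀ x ∈ D j, ρ.1 x ∈ D j) ∧ ρ.1 u = dj := by
    rcases refl_orbit hD hu hdj (by rwa [hQu]) (by rw [hQu, hQdj]) with h | ⟨-, h⟩
    · exact ⟨1, fun x hx => hx, h.symm⟩
    · exact ⟨_, fun x hx => by
        rw [refl_apply]; exact (D j).add_mem hx ((D j).smul_mem _ ((D j).sub_mem hdj hu)), h⟩
  obtain ⟨c, hc, hQc, hcn, hdc⟩ := exists_avoid hD (w := di) hdi hQdi hdi (ne_zero_of_aniso hD hQdi)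
  set c' := ρ.1 (φ ⟨c, hc⟩ : V)
  have hc' : c' ∈ D j := hρ _ (φ _).2
  have hQc' : Q c' = Q c := by rw [ρ.2]; exact hφ ⟨c, hc⟩
  have hdc' : polar Q dj c' = polar Q di c := by
    rw [← hρu, polar_oGroup]
    have e1 : Q ((φ ⟨di, hdi⟩ : V) + φ ⟨c, hc⟩) = Q (di + c) := by
      have := hφ (⟨di, hdi⟩ + ⟨c, hc⟩)
      rw [map_add, Submodule.coe_add] at this
      exact this
    simp only [polar, u]
    rw [e1, hφ, hφ]
  have hQdj0 : Q dj ≠ 0 := by rwa [hQdj]
  refine ⟨c, c', hc, hc', hcn, fun hm => ?_, hdc, hdc', fun hδX => ?_⟩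
  · obtain ⟨s, hs⟩ := Submodule.mem_span_singleton.1 hm
    rw [← hs, polar_smul_right, polar_self, two_nsmul, CharTwo.add_self_eq_zero, smul_zero] at hdc'
    exact hdc hdc'.symm
  obtain ⟨r, hr⟩ := exists_other_four hD {i, j} (le_trans Finset.card_le_two (by omega))
  obtain ⟨p, hp⟩ := exists_other_four hD {i, j, r} (by grind)
  simp only [Finset.mem_insert, Finset.mem_singleton, not_or] at hr hp
  obtain ⟨hri, hrj⟩ := hr
  obtain ⟨hpi, hpj, hpr⟩ := hp
  obtain ⟨e, he, hQe⟩ := exists_aniso_mem hD.dec r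
  obtain ⟨h, hh, hhS, hhfix, -⟩ := corr_mem hQ hD.dec hn hM p
    (mul_mem (refl_mem_stab hQ hD.dec hc) (refl_mem_stab hQ hD.dec hc'))
  have hQc0 : Q c ≠ 0 := by rwa [hQc]
  set β := -(Q c)⁻¹ * polar Q di c with hβ
  have hβ0 : β ≠ 0 := mul_ne_zero (neg_ne_zero.2 (inv_ne_zero hQc0)) hdc
  set δ' := (di + dj) + β • (c + c') with hδ'_def
  have hcc : polar Q c c' = 0 := hD.dec.orth i j hij c hc c' hc'
  have himg : (refl Q c * refl Q c').1 (di + dj) = δ' := by
    change (refl Q c).1 ((refl Q c').1 (di + dj)) = _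
    rw [map_add, refl_fix (hD.dec.orth i j hij di hdi c' hc'), refl_apply c', hQc', hdc', map_add,
      map_add, map_smul, refl_apply c di, refl_fix (hD.dec.orth j i hij.symm dj hdj c hc),
      refl_fix (show polar Q c' c = 0 by rw [polar_comm]; exact hcc), hδ'_def, ← hβ]
    module
  have hw : h.1 (e + (1 : F) • (di + dj)) = e + δ' := by
    rw [one_smul, hhfix _ (by
      rw [map_add, map_add, pr_of_mem_ne hQ hD.dec hpr he, pr_of_mem_ne hQ hD.dec hpi hdi,
        pr_of_mem_ne hQ hD.dec hpj hdj]; simp), map_add, himg]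
    congr 1
    change (refl Q c).1 ((refl Q c').1 e) = e
    rw [refl_fix (hD.dec.orth r j hrj e he c' hc'), refl_fix (hD.dec.orth r i hri e he c hc)]
  have hgood := Good.map hQ hD.dec hn hM hh hhS (good_add hQ hD hn hM hQδ he hQe (hX r hri hrj he) 1)
  rw [hw] at hgood
  have hperp : ∀ x ∈ D r, polar Q x δ' = 0 := fun x hx => by
    rw [hδ'_def, polar_add_right, polar_add_right, polar_smul_right, polar_add_right,
      hD.dec.orth r i hri x hx di hdi, hD.dec.orth r j hrj x hx dj hdj,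
      hD.dec.orth r i hri x hx c hc, hD.dec.orth r j hrj x hx c' hc']
    simp
  have hQw : Q (e + δ') = Q e := by
    rw [quad_add, hperp e he, ← himg, (refl Q c * refl Q c').2, hQδ, add_zero, add_zero]
  have hrel : Rel M e (e + δ') := Good.trans hQ hD.dec hn hM (Good.member hQ hD.dec hn hM he hQe)
    hgood (by rw [hQw]; exact IsSquare.mul_self _)
  have hδe : polar Q (di + dj) e = 0 := (hX r hri hrj he).1
  have hδδ' : polar Q (di + dj) δ' = 0 := by
    rw [hδ'_def, polar_add_right, polar_self, hQδ, smul_zero, zero_add, polar_smul_right]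
    simp only [polar_add_left, polar_add_right, hD.dec.orth i j hij di hdi c' hc',
      hD.dec.orth j i hij.symm dj hdj c hc, hdc', add_zero, zero_add, CharTwo.add_self_eq_zero,
      smul_zero]
  have hfix : (refl Q e * refl Q (e + δ')).1 (di + dj) = di + dj := by
    change (refl Q e).1 ((refl Q (e + δ')).1 (di + dj)) = _
    rw [refl_fix (show polar Q (di + dj) (e + δ') = 0 by rw [polar_add_right, hδe, hδδ', add_zero]), refl_fix hδe]
  obtain ⟨x, hx, hex⟩ := ND.partner (hD.dec.nd r) he (ne_zero_of_aniso hD hQe)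
  rw [polar_comm] at hex
  have hmove := rootSpace.move hrel hfix (hX r hri hrj hx)
  have himg2 : (refl Q e * refl Q (e + δ')).1 x - x = (-(Q e)⁻¹ * polar Q x e) • δ' := by
    change (refl Q e).1 ((refl Q (e + δ')).1 x) - x = _
    rw [refl_apply (e + δ'), hQw, polar_add_right, hperp x hx, add_zero, map_add, map_smul,
      map_add, refl_self hQe, refl_apply e x,
      refl_fix (show polar Q δ' e = 0 by rw [polar_comm]; exact hperp e he)]
    module
  rw [himg2] at hmove
  have h3 := (Submodule.smul_mem_iff _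
    (mul_ne_zero (neg_ne_zero.2 (inv_ne_zero hQe)) hex)).1 hmove
  have := Submodule.sub_mem _ h3 hδX
  rw [hδ'_def, add_sub_cancel_left] at this
  exact (Submodule.smul_mem_iff _ hβ0).1 this

/-- A root element at a two-member centre with a component elsewhere generates. -/
theorem le_of_delta {i j l : Fin t} (hij : i ≠ j) (hli : l ≠ i) (hlj : l ≠ j) {di dj : V}
    (hdi : di ∈ D i) (hdj : dj ∈ D j) (hQdi : Q di ≠ 0) (hQdj : Q dj = -Q di) {a : V}
    (hδa : polar Q (di + dj) a = 0) (hal : pr hQ hD.dec l a ≠ 0)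
    (h : siegel Q (di + dj) a ∈ M) : commutator (oGroup Q) ≤ M := by
  classical
  have hdd : polar Q di dj = 0 := hD.dec.orth i j hij di hdi dj hdj
  have hQδ : Q (di + dj) = 0 := by rw [quad_add, hQdj, hdd]; ring
  have hQdj0 : Q dj ≠ 0 := by rw [hQdj]; exact neg_ne_zero.2 hQdi
  have hδ : ∀ r, r ≠ i → r ≠ j → pr hQ hD.dec r (di + dj) = 0 := fun r hri hrj => by
    rw [map_add, pr_of_mem_ne hQ hD.dec hri hdi, pr_of_mem_ne hQ hD.dec hrj hdj, add_zero]
  have hX := members_le hQ hD hn hM hQδ hδ hli hlj hδa hal h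
  have hδX : di + dj ∈ rootSpace M hQδ := ⟨by rw [polar_self, hQδ, smul_zero], fun s => by
    rw [← zero_add (s • (di + dj)), siegel_add_smul hQδ (polar_zero_right Q _), siegel_zero hQδ]
    exact one_mem _⟩
  have hperpv : ∀ (m : Fin t) (v : V), v ∈ D m → Q v ≠ 0 →
      ∃ w ∈ D m, w ≠ 0 ∧ polar Q v w = 0 ∧ Q w ≠ 0 := by
    intro m v hv hQv
    obtain ⟨w, ⟨hw, hwv⟩, hw0⟩ := Submodule.exists_mem_ne_zero_of_ne_bot
      (p := D m ⊓ perpS Q (Submodule.span F {v})) (fun h => by
        have := ND.finrank_inf_perp_singleton hQ (D m) v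
        rw [h, finrank_bot] at this
        have := hD.dec.dim m
        omega)
    have hvw := hwv v (Submodule.mem_span_singleton_self v)
    exact ⟨w, hw, hw0, hvw, perp_aniso hD hv hw hQv hvw hw0⟩
  obtain ⟨ai, hai, hai0, hdai, hQai⟩ := hperpv i di hdi hQdi
  obtain ⟨aj, haj, haj0, hdaj, hQaj⟩ := hperpv j dj hdj hQdj0
  have haiX := perp_mem_root hQ hD hn hM hij hdi hdj hQdi hQδ hX hai hQai hdai
  have hswap : ∀ {x y : V} (hx : Q x = 0) (hy : Q y = 0), x = y →
      rootSpace M hx = rootSpace M hy := fun hx hy e => by subst e; rfl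
  have hQδ' : Q (dj + di) = 0 := by rw [add_comm]; exact hQδ
  have hXe : rootSpace M hQδ' = rootSpace M hQδ := hswap _ _ (add_comm _ _)
  have hajX : aj ∈ rootSpace M hQδ := by
    rw [← hXe]
    exact perp_mem_root hQ hD hn hM hij.symm hdj hdi hQdj0 hQδ'
      (fun r hrj hri => by rw [hXe]; exact hX r hri hrj) haj hQaj hdaj
  -- everything orthogonal to the centre
  have hFull : Full M (di + dj) := by
    intro x hx
    refine rootSpace.self_mem (hx := hQδ) ?_
    rw [← sum_pr hQ hD.dec x, ← Finset.sum_sdiff (Finset.subset_univ ({i, j} : Finset (Fin t))),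
      Finset.sum_pair hij]
    refine Submodule.add_mem _ (Submodule.sum_mem _ fun r hr => ?_) ?_
    · simp only [Finset.mem_sdiff, Finset.mem_univ, true_and, Finset.mem_insert,
        Finset.mem_singleton, not_or] at hr
      exact hX r hr.1 hr.2 (pr_mem hQ hD.dec r x)
    rw [polar_add_left, ← polar_pr hQ hD.dec hdi, ← polar_pr hQ hD.dec hdj] at hx
    by_cases h2 : (2 : F) = 0
    · haveI : CharP F 2 := CharTwo.of_one_ne_zero_of_two_eq_zero one_ne_zero h2
      obtain ⟨c, c', hc, hc', hcn, hcn', hdc, hdc', hcX⟩ :=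
        extra_mem_root hQ hD hn hM h2 hij hdi hdj hQdi (by rw [hQdj, CharTwo.neg_eq]) hQδ hX
      have hin : ∀ {m : Fin t} {v w : V}, v ∈ D m → Q v ≠ 0 → w ∈ D m → w ≠ 0 → polar Q v w = 0 →
          w ∈ rootSpace M hQδ → v ∈ rootSpace M hQδ := by
        intro m v w hv hQv hw hw0 hvw hwX
        have hvv : polar Q v v = 0 := by
          rw [polar_self, two_nsmul, CharTwo.add_self_eq_zero]
        obtain ⟨s, hs⟩ := Submodule.mem_span_singleton.1
          (perp_mem hD hv (ne_zero_of_aniso hD hQv) hw hw0 hv hvw hvv)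
        rw [← hs]; exact Submodule.smul_mem _ _ hwX
      have hdiX := hin hdi hQdi hai hai0 hdai haiX
      have hdjX := hin hdj hQdj0 haj haj0 hdaj hajX
      obtain ⟨p, q, hpq⟩ := exists_coord hD hdi hc (ne_zero_of_aniso hD hQdi) hcn (pr_mem hQ hD.dec i x)
      obtain ⟨p', q', hpq'⟩ := exists_coord hD hdj hc' (ne_zero_of_aniso hD hQdj0) hcn'
        (pr_mem hQ hD.dec j x)
      rw [hpq, hpq'] at hx ⊢
      simp only [polar_add_right, polar_smul_right, polar_self, two_nsmul, CharTwo.add_self_eq_zero,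
        smul_zero, zero_add, hdc', smul_eq_mul, mul_zero, ← add_mul] at hx
      have hqq : q' = q := by
        have := (mul_eq_zero.1 hx).resolve_right hdc
        linear_combination this - q * h2
      rw [hqq, show p • di + q • c + (p' • dj + q • c') = p • di + p' • dj + q • (c + c') by module]
      exact Submodule.add_mem _ (Submodule.add_mem _ (Submodule.smul_mem _ _ hdiX)
        (Submodule.smul_mem _ _ hdjX)) (Submodule.smul_mem _ _ (hcX hδX))
    · have hself : ∀ {v w : V}, Q v ≠ 0 → polar Q v w = 0 → w ≠ 0 →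
          w ∉ Submodule.span F {v} := fun hQv h h0 => not_mem_span_of_ne (ne_zero_of_aniso hD hQv) h
        (by rw [polar_self, two_nsmul, ← two_mul]; exact mul_ne_zero h2 hQv) h0
      obtain ⟨p, q, hpq⟩ := exists_coord hD hdi hai (ne_zero_of_aniso hD hQdi)
        (hself hQdi hdai hai0) (pr_mem hQ hD.dec i x)
      obtain ⟨p', q', hpq'⟩ := exists_coord hD hdj haj (ne_zero_of_aniso hD hQdj0)
        (hself hQdj0 hdaj haj0) (pr_mem hQ hD.dec j x)
      rw [hpq, hpq'] at hx ⊢
      simp only [polar_add_right, polar_smul_right, polar_self, hdai, hdaj, hQdj, two_nsmul,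
        smul_eq_mul, mul_zero, add_zero] at hx
      have hpp : p' = p := by
        have h1 : (p' - p) * (2 * Q di) = 0 := by linear_combination -hx
        exact sub_eq_zero.1 ((mul_eq_zero.1 h1).resolve_right (mul_ne_zero h2 hQdi))
      rw [hpp, show p • di + q • ai + (p • dj + q' • aj) = q • ai + q' • aj + p • (di + dj) by module]
      exact Submodule.add_mem _ (Submodule.add_mem _ (Submodule.smul_mem _ _ haiX)
        (Submodule.smul_mem _ _ hajX)) (Submodule.smul_mem _ _ hδX)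
  -- a second centre
  obtain ⟨c, hc, hQc, -, hdc⟩ := exists_avoid hD (w := di) hdi hQdi hdi (ne_zero_of_aniso hD hQdi)
  have hQc0 : Q c ≠ 0 := by rwa [hQc]
  obtain ⟨g, hg, -, hgfix, -⟩ := corr_mem hQ hD.dec hn hM l (refl_mem_stab hQ hD.dec hc)
  have hFf := Full.conj hg hQδ hFull
  have himg : g.1 (di + dj) = (refl Q c).1 di + dj := by
    rw [hgfix _ (hδ l hli hlj), map_add, refl_fix (hD.dec.orth j i hij.symm dj hdj c hc)]
  rw [himg] at hFf
  refine commutator_le_of_two hQ hn hQδ (by rw [← himg, g.2, hQδ]) ?_ hFull hFf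
  rw [refl_apply, add_right_comm, polar_add_right, polar_self, hQδ, smul_zero, zero_add,
    polar_smul_right, polar_add_left, hD.dec.orth j i hij.symm dj hdj c hc, add_zero, smul_eq_mul]
  exact mul_ne_zero (mul_ne_zero (neg_ne_zero.2 (inv_ne_zero hQc0)) hdc) hdc

end CfsgLib.Geo.OD2
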