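import Cfsg.Agent.Geo.OrthDec2.Plane
import Cfsg.Agent.Geo.OrthDecompOvergroup

/-!
Root elements centred in a plane member generate, and one related pair of vectors leads to either
such a root element or a new good vector.
-/

set_option autoImplicit false
set_option linter.unusedSectionVars false

namespace CfsgLib.Geo.OD2

open QuadraticMap CfsgLib.Forms CfsgLib.Quad CfsgLib.Geo.OS

variable {F V : Type*} [Field F] [AddCommGroup V] [Module F V] [FiniteDimensional F V] [Finite F]
  {Q : QuadraticForm F V} {t : ℕ}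

omit [FiniteDimensional F V] [Finite F] in
/-- Two reflections in a hyperbolic plane scale a singular vector. -/
theorem torus_apply {e f : V} (he : Q e = 0) (hf : Q f = 0) (hef : polar Q e f = 1) {r : F}
    (hr : r ≠ 0) :
    Q (e + f) = 1 ∧ Q (e + r • f) = r ∧ (refl Q (e + f)).1 e = -f ∧
      (refl Q (e + f) * refl Q (e + r • f)).1 e = r • e := by
  have hee : polar Q e e = 0 := by rw [polar_self, he, smul_zero]
  have hff : polar Q f f = 0 := by rw [polar_self, hf, smul_zero]
  have h1 : Q (e + f) = 1 := by rw [quad_add, he, hf, hef]; ring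
  have h2 : Q (e + r • f) = r := by
    rw [quad_add, quad_smul, he, hf, polar_smul_right, hef, smul_eq_mul]; ring
  refine ⟨h1, h2, ?_, ?_⟩
  · rw [refl_apply, h1, polar_add_right, hee, hef]
    module
  · change (refl Q (e + f)).1 ((refl Q (e + r • f)).1 e) = _
    have e1 : (refl Q (e + r • f)).1 e = (-r) • f := by
      rw [refl_apply, h2, polar_add_right, polar_smul_right, hee, hef, smul_eq_mul, mul_one,
        zero_add, neg_mul, inv_mul_cancel₀ hr]
      module
    rw [e1, map_smul, refl_apply, h1, polar_add_right, polar_comm (⇑Q) f e, hef, hff]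
    module

omit [FiniteDimensional F V] [Finite F] in
theorem root_move {M : Subgroup (oGroup Q)} {e a : V} (he : Q e = 0) (hea : polar Q e a = 0)
    {h : oGroup Q} (hh : h ∈ M) (hfix : h.1 e = e) (hm : siegel Q e a ∈ M) :
    polar Q e (h.1 a - a) = 0 ∧ siegel Q e (h.1 a - a) ∈ M := by
  have hea' : polar Q e (h.1 a) = 0 := by conv_lhs => rw [← hfix, polar_oGroup, hea]
  have := mul_mem (siegel_conj_mem hh he hea hm) (inv_mem hm)
  rw [hfix, siegel_inv he hea, siegel_mul he hea' (by rw [polar_neg_right, hea, neg_zero]),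
    ← sub_eq_add_neg] at this
  exact ⟨by rw [polar_sub_right, hea', hea, sub_zero], this⟩

variable (hQ : (polarBilin Q).Nondegenerate) {D : Fin t → Submodule F V} (hD : Dec2 Q D)
  (hn : 5 ≤ Module.finrank F V) {M : Subgroup (oGroup Q)}
  (hM : decompStab Q D ⊓ commutator (oGroup Q) ≤ M)

include hQ hD hn hM

/-- A root element centred in a member with a component outside it generates. -/
theorem le_of_member_center {m i : Fin t} (hmi : m ≠ i) {e : V} (he : e ∈ D m) (he0 : e ≠ 0)
    (hQe : Q e = 0) {w : V} (hew : polar Q e w = 0) (hwi : pr hQ hD.dec i w ≠ 0)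
    (h : siegel Q e w ∈ M) : commutator (oGroup Q) ≤ M := by
  classical
  obtain ⟨f0, hf0, hQf0, hef0⟩ := ND.singular_partner (hD.dec.nd m) he he0 hQe
  set f := (polar Q e f0)⁻¹ • f0 with hf_def
  have hf : f ∈ D m := (D m).smul_mem _ hf0
  have hQf : Q f = 0 := by rw [hf_def, quad_smul, hQf0, mul_zero]
  have hef : polar Q e f = 1 := by
    rw [hf_def, polar_smul_right, smul_eq_mul, inv_mul_cancel₀ hef0]
  have hperp : ∀ l, l ≠ m → ∀ y ∈ D l, polar Q e y = 0 := fun l hl y hy =>
    hD.dec.orth m l hl.symm e he y hy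
  have hpe : ∀ p, p ≠ m → pr hQ hD.dec p e = 0 := fun p hp => pr_of_mem_ne hQ hD.dec hp he
  -- a root vector in the member `i`
  obtain ⟨σ, hσ, -, hσfix, hσu, hσne, -, -⟩ :=
    exists_rot hQ hD hn hM (pr_mem hQ hD.dec i w) hwi
  obtain ⟨-, hδM⟩ := root_move hQe hew hσ (hσfix e (hpe i hmi.symm)) h
  set δ := σ.1 (pr hQ hD.dec i w) - pr hQ hD.dec i w
  have hδeq : σ.1 w - w = δ := by
    have h1 := hσfix (w - pr hQ hD.dec i w)
      (by rw [map_sub, pr_of_mem hQ hD.dec (pr_mem hQ hD.dec i w), sub_self])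
    rw [map_sub, sub_eq_iff_eq_add] at h1
    rw [h1]; simp only [δ]; abel
  rw [hδeq] at hδM
  have hδ : δ ∈ D i := (D i).sub_mem hσu (pr_mem hQ hD.dec i w)
  have hδ0 : δ ≠ 0 := sub_ne_zero.2 hσne
  -- scalars
  have hscal : ∀ l, l ≠ m → ∀ a ∈ D l, siegel Q e a ∈ M → a ∈ rootSpace M hQe := by
    intro l hl a ha hm
    refine ⟨hperp l hl a ha, fun r => ?_⟩
    rcases eq_or_ne r 0 with rfl | hr
    · rw [zero_smul, siegel_zero hQe]; exact one_mem _
    obtain ⟨-, -, -, htor⟩ := torus_apply hQe hQf hef hr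
    obtain ⟨p, hpm, hpl, -, -⟩ := exists_other hD m l m l
    obtain ⟨g, hg, -, hgfix, -⟩ := corr_mem hQ hD.dec hn hM p (g := refl Q (e + f) *
      refl Q (e + r • f)) (mul_mem (refl_mem_stab hQ hD.dec ((D m).add_mem he hf))
        (refl_mem_stab hQ hD.dec ((D m).add_mem he ((D m).smul_mem _ hf))))
    have := siegel_conj_mem hg hQe (hperp l hl a ha) hm
    rw [hgfix e (hpe p hpm), htor, hgfix a (pr_of_mem_ne hQ hD.dec hpl ha)] at this
    have hfa : (refl Q (e + f) * refl Q (e + r • f)).1 a = a := by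
      change (refl Q (e + f)).1 ((refl Q (e + r • f)).1 a) = a
      rw [refl_fix (hD.dec.orth l m hl a ha _ ((D m).add_mem he ((D m).smul_mem _ hf))),
        refl_fix (hD.dec.orth l m hl a ha _ ((D m).add_mem he hf))]
    rwa [hfa, siegel_smul hQe (hperp l hl a ha) r] at this
  have hδA : δ ∈ rootSpace M hQe := hscal i hmi.symm δ hδ hδM
  -- the whole member `i`
  obtain ⟨v, hv, hQv⟩ := exists_aniso_mem hD.dec i
  obtain ⟨c, hc, hQc, hcδ, hδc⟩ := exists_avoid hD (w := δ) hv hQv hδ hδ0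
  have hQc0 : Q c ≠ 0 := by rwa [hQc]
  obtain ⟨p, hpm, hpi, -, -⟩ := exists_other hD m i m i
  obtain ⟨g, hg, -, hgfix, -⟩ := corr_mem hQ hD.dec hn hM p (refl_mem_stab hQ hD.dec hc)
  have hge : g.1 e = e := by
    rw [hgfix e (hpe p hpm), refl_fix (hperp i hmi.symm c hc)]
  have hcA : c ∈ rootSpace M hQe := by
    have := rootSpace.move hg hge hδA
    rw [hgfix δ (pr_of_mem_ne hQ hD.dec hpi hδ), refl_apply, add_sub_cancel_left] at this
    exact (Submodule.smul_mem_iff _ (mul_ne_zero (neg_ne_zero.2 (inv_ne_zero hQc0)) hδc)).1 this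
  have hDi : D i ≤ rootSpace M hQe := by
    rw [← eq_span_pair hD hδ hc hδ0 hcδ]
    exact sup_le ((Submodule.span_singleton_le_iff_mem _ _).2 hδA)
      ((Submodule.span_singleton_le_iff_mem _ _).2 hcA)
  -- all the other members
  have hall : ∀ j, j ≠ m → D j ≤ rootSpace M hQe := by
    intro j hjm
    rcases eq_or_ne j i with rfl | hji
    · exact hDi
    intro y hy
    obtain ⟨s, hs, -, hsj, hinv, hsfix⟩ := exists_swap hQ hD.dec hji.symm
    obtain ⟨p, hpm, hpi, hpj, -⟩ := exists_other hD m i j j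
    obtain ⟨g, hg, -, hgfix, -⟩ := corr_mem hQ hD.dec hn hM p hs
    refine hscal j hjm y hy ?_
    have := siegel_conj_mem hg hQe (hperp i hmi.symm _ (hsj y hy))
      (rootSpace.self_mem (hDi (hsj y hy)))
    rwa [hgfix e (hpe p hpm), hgfix _ (pr_of_mem_ne hQ hD.dec hpi (hsj y hy)), hinv,
      hsfix e (hpe i hmi.symm) (hpe j hjm)] at this
  have hee : polar Q e e = 0 := by rw [polar_self, hQe, smul_zero]
  have heA : e ∈ rootSpace M hQe := ⟨hee, fun r => by
    rw [← zero_add (r • e), siegel_add_smul hQe (polar_zero_right Q e), siegel_zero hQe]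
    exact one_mem _⟩
  have hFull : Full M e := by
    intro a hea
    refine rootSpace.self_mem (hx := hQe) ?_
    rw [← sum_pr hQ hD.dec a]
    refine Submodule.sum_mem _ fun l _ => ?_
    rcases eq_or_ne l m with rfl | hl
    · obtain ⟨r, hr⟩ := Submodule.mem_span_singleton.1 (perp_mem hD he he0 he he0
        (pr_mem hQ hD.dec l a) hee (by rw [polar_pr hQ hD.dec he]; exact hea))
      rw [← hr]; exact Submodule.smul_mem _ _ heA
    · exact hall l hl (pr_mem hQ hD.dec l a)
  obtain ⟨-, -, hrefl, -⟩ := torus_apply hQe hQf hef one_ne_zero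
  obtain ⟨g, hg, -, hgfix, -⟩ := corr_mem hQ hD.dec hn hM p
    (refl_mem_stab hQ hD.dec ((D m).add_mem he hf))
  have hFf := Full.conj hg hQe hFull
  rw [hgfix e (hpe p hpm), hrefl] at hFf
  exact commutator_le_of_two hQ hn hQe (by rw [QuadraticMap.map_neg, hQf])
    (by rw [polar_neg_right, hef]; simp) hFull hFf

/-- A related pair, one missing a member, gives a generating root element or a good vector. -/
theorem le_or_good {x y : V} (hQx : Q x ≠ 0) (h : Rel M x y) {m : Fin t}
    (hym : pr hQ hD.dec m y = 0) (hxm : pr hQ hD.dec m x ≠ 0) (hx : x ∉ D m) :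
    commutator (oGroup Q) ≤ M ∨ ∃ z, Good D M z ∧ ∀ l, z ∉ D l := by
  obtain ⟨σ, hσ, -, hσfix, hσu, hσne, hσneg, hσan⟩ :=
    exists_rot hQ hD hn hM (pr_mem hQ hD.dec m x) hxm
  obtain ⟨j, hjm, hxj⟩ : ∃ j, j ≠ m ∧ pr hQ hD.dec j x ≠ 0 := by
    by_contra hc
    push Not at hc
    exact hx (mem_of_pr hQ hD.dec hc)
  set u := pr hQ hD.dec m x
  set δ := σ.1 u - u with hδ_def
  have hδ : δ ∈ D m := (D m).sub_mem hσu (pr_mem hQ hD.dec m x)
  have hσx : σ.1 x = x + δ := by
    have h1 := hσfix (x - u) (by rw [map_sub, pr_of_mem hQ hD.dec (pr_mem hQ hD.dec m x), sub_self])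
    rw [map_sub, sub_eq_iff_eq_add] at h1
    rw [h1, hδ_def]; abel
  have hrel : Rel M x (x + δ) := by
    have h1 := h.conj hσ
    rw [hσx, hσfix y hym] at h1
    exact h.trans h1.symm
  have hsame : Q (x + δ) = Q x := by rw [← hσx, σ.2]
  by_cases hQδ : Q δ = 0
  · left
    have hb : polar Q δ x = 0 := by
      rw [quad_add, hQδ, add_zero] at hsame
      rw [polar_comm]; linear_combination hsame
    have := Rel.siegel_mem (s := 1) hQx hQδ hb (by rwa [one_smul])
    refine le_of_member_center hQ hD hn hM hjm.symm hδ (sub_ne_zero.2 hσne) hQδ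
      (by rw [polar_smul_right, hb, smul_zero]) ?_ this
    rw [map_smul]
    exact smul_ne_zero (div_ne_zero one_ne_zero hQx) hxj
  · right
    obtain ⟨hrz, hQz⟩ := Rel.refl_diff hQx hQδ hsame hrel
    refine ⟨_, ⟨by rwa [hQz], m, δ, hδ, hQδ, by rw [hQz]; exact IsSquare.mul_self _, hrz⟩,
      fun l hl => ?_⟩
    have hc : Q δ / Q x ≠ 0 := div_ne_zero hQδ hQx
    have hlj : l = j := by
      by_contra hne
      have h0 := pr_of_mem_ne hQ hD.dec (Ne.symm hne) hl
      rw [map_add, map_smul, pr_of_mem_ne hQ hD.dec hjm hδ, zero_add] at h0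
      exact smul_ne_zero hc hxj h0
    subst hlj
    have h0 := pr_of_mem_ne hQ hD.dec hjm.symm hl
    rw [map_add, map_smul, pr_of_mem hQ hD.dec hδ] at h0
    have hsu : σ.1 u = (1 - Q δ / Q x) • u := by
      rw [sub_smul, one_smul]
      rw [hδ_def] at h0 ⊢
      linear_combination (norm := module) h0
    have hQu : Q u ≠ 0 := fun h1 => hQδ (by
      rw [hδ_def, hsu, show (1 - Q δ / Q x) • u - u = (-(Q δ / Q x)) • u by module, quad_smul, h1, mul_zero])
    have h2 : (1 - Q δ / Q x) * (1 - Q δ / Q x) * Q u = Q u := by rw [← quad_smul, ← hsu, σ.2]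
    rcases mul_self_eq_one_iff.1 ((mul_eq_right₀ hQu).1 h2) with h3 | h3
    · exact hc (by linear_combination -h3)
    · exact hσneg (by rw [hsu, h3, neg_one_smul])

/-- A related pair whose components in one member are on one singular line. -/
theorem le_of_pair {x y : V} (hQx : Q x ≠ 0) (hQy : Q y ≠ 0) (h : Rel M x y) {m : Fin t} {e : V}
    (he : e ∈ D m) (he0 : e ≠ 0) (hQe : Q e = 0) {a b : F} (hxm : pr hQ hD.dec m x = a • e)
    (hym : pr hQ hD.dec m y = b • e) (hb : b ≠ 0)
    (hind : ∀ r s : F, r • x + s • y ∈ D m → s = 0) : commutator (oGroup Q) ≤ M := by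
  have h4 : 4 ≤ Nat.card F := by
    rcases hD.field m with ⟨han, -⟩ | h7
    · exact absurd (han e he hQe) he0
    · omega
  obtain ⟨f0, hf0, hQf0, hef0⟩ := ND.singular_partner (hD.dec.nd m) he he0 hQe
  set f := (polar Q e f0)⁻¹ • f0 with hf_def
  have hf : f ∈ D m := (D m).smul_mem _ hf0
  have hQf : Q f = 0 := by rw [hf_def, quad_smul, hQf0, mul_zero]
  have hef : polar Q e f = 1 := by
    rw [hf_def, polar_smul_right, smul_eq_mul, inv_mul_cancel₀ hef0]
  obtain ⟨s, hs0, hs1, hs2⟩ := exists_ne_pm_one h4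
  obtain ⟨hQc, hQc', -, htor⟩ := torus_apply hQe hQf hef (mul_ne_zero hs0 hs0)
  have hc : e + f ∈ D m := (D m).add_mem he hf
  have hc' : e + (s * s) • f ∈ D m := (D m).add_mem he ((D m).smul_mem _ hf)
  set τ := refl Q (e + f) * refl Q (e + (s * s) • f)
  have hτ : τ ∈ M := Rel.member hQ hD.dec hn hM hc hc' (by rw [hQc]; exact one_ne_zero)
    (by rw [hQc']; exact mul_ne_zero hs0 hs0) (by rw [hQc, hQc', one_mul]; exact IsSquare.mul_self s)
  have hτfix : ∀ z, pr hQ hD.dec m z = 0 → τ.1 z = z := fun z hz => by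
    change (refl Q (e + f)).1 ((refl Q (e + (s * s) • f)).1 z) = z
    rw [refl_fix ((pr_eq_zero_iff hQ hD.dec).1 hz _ hc'),
      refl_fix ((pr_eq_zero_iff hQ hD.dec).1 hz _ hc)]
  have himg : ∀ (z : V) (c : F), pr hQ hD.dec m z = c • e →
      τ.1 z = z + (c * (s * s - 1)) • e ∧ polar Q e z = 0 := fun z c hz => by
    have h1 := hτfix (z - c • e) (by rw [map_sub, hz, map_smul, pr_of_mem hQ hD.dec he, sub_self])
    rw [map_sub, map_smul, htor, sub_eq_iff_eq_add] at h1
    refine ⟨by rw [h1]; module, ?_⟩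
    rw [← polar_pr hQ hD.dec he, hz, polar_smul_right, polar_self, hQe]; simp
  obtain ⟨hτx, hex⟩ := himg x a hxm
  obtain ⟨hτy, hey⟩ := himg y b hym
  set cx := a * (s * s - 1) / Q x
  set cy := b * (s * s - 1) / Q y
  have hfe : (refl Q x).1 e = e := refl_fix hex
  have hey' : polar Q e (cy • y) = 0 := by rw [polar_smul_right, hey, smul_zero]
  have hRe : polar Q e ((refl Q x).1 (cy • y)) = 0 := by
    conv_lhs => rw [← hfe, polar_oGroup, hey']
  have hex' : polar Q e (cx • x) = 0 := by rw [polar_smul_right, hex, smul_zero]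
  have hmem : siegel Q e ((refl Q x).1 (cy • y) + cx • x) ∈ M := by
    have h1 := mul_mem h ((h.conj hτ).symm)
    rw [hτx, hτy] at h1
    rw [← siegel_mul hQe hRe hex']
    have e1 : siegel Q e ((refl Q x).1 (cy • y)) =
        refl Q x * siegel Q e (cy • y) * (refl Q x)⁻¹ := by
      rw [siegel_conj _ hQe hey', hfe]
    rw [e1, ← Rel.refl_mul_refl_add hQy hQe hey, ← Rel.refl_mul_refl_add hQx hQe hex, refl_inv]
    convert h1 using 1
    rw [mul_assoc _ (refl Q x) (refl Q x * _), ← mul_assoc (refl Q x) (refl Q x), refl_mul_self,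
      one_mul]
    simp only [mul_assoc]
  obtain ⟨i, him, hi⟩ : ∃ i, i ≠ m ∧ pr hQ hD.dec i ((refl Q x).1 (cy • y) + cx • x) ≠ 0 := by
    by_contra hcon
    push Not at hcon
    have hin := mem_of_pr hQ hD.dec hcon
    rw [refl_apply] at hin
    have h0 := hind (-(Q x)⁻¹ * polar Q (cy • y) x + cx) cy (by convert hin using 1; module)
    have : s * s - 1 ≠ 0 := sub_ne_zero.2 fun h1 => (mul_self_eq_one_iff.1 h1).elim hs1 hs2
    exact div_ne_zero (mul_ne_zero hb this) hQy h0
  exact le_of_member_center hQ hD hn hM him.symm he he0 hQe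
    (by rw [polar_add_right, hRe, hex', add_zero]) hi hmem

end CfsgLib.Geo.OD2
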