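import Cfsg.Agent.Geo.OrthDec2.PlaneMax
import Cfsg.Agent.Geo.OrthDec2.Big
import Cfsg.Agent.Geo.OrthDecompOvergroup
import Cfsg.Agent.Geo.DecompCoords
import Cfsg.Agent.Geo.OrthPlus

/-!
The stabiliser in `Ω` of an orthogonal decomposition of a space of dimension at least thirteen into
members of dimension at least two is maximal, in the language of matrices.
-/

set_option autoImplicit false
set_option linter.unusedSectionVars false

namespace CfsgLib.Geo.OD2

open QuadraticMap CfsgLib.Forms CfsgLib.Quad CfsgLib.Geo.OS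

variable {F : Type*} [Field F] {n t k : ℕ} {D : Fin t → Submodule F (Fin n → F)}

/-- A totally singular half of one member makes every member of plus type. -/
theorem plus_of_half {Q : QuadraticForm F (Fin n → F)}
    (hiso : ∀ i j, Cfsg.Geo.AreIsometricFor (⇑Q) (D i) (D j))
    (hdim : ∀ i, Module.finrank F (D i) = k) {i : Fin t} {U : Submodule F (Fin n → F)}
    (hU : U ≤ D i) (hQ : ∀ x ∈ U, Q x = 0) (h : 2 * Module.finrank F U = k) :
    ∀ j, Cfsg.Geo.IsPlusTypeOn (⇑Q) (D j) := by
  intro j
  obtain ⟨e, he⟩ := hiso i j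
  let f : U →ₗ[F] (Fin n → F) := (D j).subtype ∘ₗ e.toLinearMap ∘ₗ Submodule.inclusion hU
  refine ⟨LinearMap.range f, ?_, ?_, ?_⟩
  · rintro _ ⟨x, rfl⟩; exact (e _).2
  · rintro _ ⟨x, rfl⟩
    change Q (e _ : Fin n → F) = 0
    rw [he]; exact hQ _ x.2
  · rw [LinearMap.finrank_range_of_inj (fun x y hxy => by
      have h1 := e.injective (Subtype.ext hxy)
      exact Subtype.ext (congrArg (fun z : D i => (z : Fin n → F)) h1)), hdim]
    exact h

theorem decomposition_maximal_of_seven [Fintype F] (hn : 7 ≤ n) (ht : k = 2 → 5 ≤ t) {Q : (Fin n → F) → F}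
    (hQ : Cfsg.Geo.IsNondegenerateQuadraticForm Q) (hk : 2 ≤ k)
    (hD : Cfsg.Geo.IsOrthogonalMDecomposition Q k D) (hodd : Odd k → Odd (Fintype.card F))
    (h3 : k = 2 ∨ k = 3 → Fintype.card F ≠ 3)
    (hp2 : k = 2 → (∀ i, Cfsg.Geo.IsPlusTypeOn Q (D i)) →
      Fintype.card F ≠ 2 ∧ Fintype.card F ≠ 4 ∧ Fintype.card F ≠ 5)
    (hp4 : k = 4 → Fintype.card F = 2 → ¬ ∀ i, Cfsg.Geo.IsPlusTypeOn Q (D i)) :
    Cfsg.Geo.IsMaximalIn (Cfsg.Geo.omegaGL Q)
      (Cfsg.Geo.decompositionStabilizer D ⊓ Cfsg.Geo.omegaGL Q) := by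
  obtain ⟨Q', hQc, hQ'⟩ := exists_quadraticForm hQ
  rw [← hQc] at hD hp2 hp4 ⊢
  have hd : Module.finrank F (Fin n → F) = n := by simp
  have htk : t * k = n := by
    obtain ⟨Θ, -⟩ := CfsgLib.Geo.Decomp.exists_coords hD.decomp.decomp
    have := Θ.finrank_eq
    rw [hd, Module.finrank_pi_fintype] at this
    simpa using this
  have hdim := hD.decomp.decomp.finrank_eq
  have hbridge : Cfsg.Geo.IsMaximalIn (commutator (oGroup Q'))
      (decompStab Q' D ⊓ commutator (oGroup Q')) → Cfsg.Geo.IsMaximalIn (Cfsg.Geo.omegaGL ⇑Q')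
      (Cfsg.Geo.decompositionStabilizer D ⊓ Cfsg.Geo.omegaGL ⇑Q') :=
    isMaximalIn_map_omega (L := decompStab Q' D) fun g _ => by
      have hmap : ∀ X : Submodule F (Fin n → F),
          X.map (Matrix.toLin' (toGL Q' g : Matrix _ _ F)) = X.map g.1.toLinearMap :=
        fun X => congrArg (Submodule.map · X)
          (LinearMap.ext fun x => by rw [Matrix.toLin'_apply, toGL_mulVec]; rfl)
      exact exists_congr fun σ => forall_congr' fun i => by rw [hmap]
  refine hbridge ?_
  have hcard := Fintype.one_lt_card (α := F)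
  rcases eq_or_ne k 2 with rfl | hk2
  · have hDec : Dec Q' 2 D :=
      { two_le := le_rfl
        two := hD.decomp.decomp.two_le
        dim := hdim
        nd := fun i => nd_of_isNondegenerateOn (hD.decomp.nondegenerate i)
        orth := hD.decomp.orthogonal
        top := hD.decomp.decomp.iSup_eq_top
        iso := hD.isometric }
    refine plane_maximal hQ' ⟨hDec, ht rfl, fun i => ?_⟩ (by omega)
    rw [Nat.card_eq_fintype_card]
    by_cases hs : ∀ x ∈ D i, Q' x = 0 → x = 0
    · exact Or.inl ⟨hs, h3 (Or.inl rfl)⟩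
    · right
      push Not at hs
      obtain ⟨e, he, hQe, he0⟩ := hs
      have hplus := plus_of_half hD.isometric hdim (i := i) (U := Submodule.span F {e})
        ((Submodule.span_singleton_le_iff_mem _ _).2 he) (fun x hx => by
          obtain ⟨s, rfl⟩ := Submodule.mem_span_singleton.1 hx
          rw [quad_smul, hQe, mul_zero]) (by rw [finrank_span_singleton he0])
      obtain ⟨h2, h4, h5⟩ := hp2 rfl hplus
      have h3' := h3 (Or.inl rfl)
      have h6 : Fintype.card F ≠ 6 := fun h => by
        obtain ⟨m, hp, hpm⟩ := FiniteField.card F (ringChar F)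
        rw [h] at hpm
        have a := (Nat.prime_dvd_prime_iff_eq Nat.prime_two hp).1
          (Nat.prime_two.dvd_of_dvd_pow (hpm ▸ (by norm_num : 2 ∣ 6)))
        have b := (Nat.prime_dvd_prime_iff_eq Nat.prime_three hp).1
          (Nat.prime_three.dvd_of_dvd_pow (hpm ▸ (by norm_num : 3 ∣ 6)))
        omega
      omega
  · have hOD : OD Q' k D :=
      { three := by omega
        two := hD.decomp.decomp.two_le
        dim := hdim
        nd := fun i => nd_of_isNondegenerateOn (hD.decomp.nondegenerate i)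
        orth := hD.decomp.orthogonal
        top := hD.decomp.decomp.iSup_eq_top
        iso := hD.isometric }
    by_cases h2 : (2 : F) = 0
    · haveI : CharP F 2 := CharTwo.of_one_ne_zero_of_two_eq_zero one_ne_zero h2
      have hk4 : 4 ≤ k := by
        rcases Nat.even_or_odd k with ⟨r, hr⟩ | ho
        · omega
        · exact absurd (Nat.even_iff.2 (FiniteField.even_card_of_char_two (ringChar.eq F 2)))
            (Nat.not_even_iff_odd.2 (hodd ho))
      refine big_maximal hQ' hOD hk4 (by omega) fun hk' hq i x hx y hy hx0 hQx hQy hxy => ?_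
      rw [Nat.card_eq_fintype_card] at hq
      by_contra hn'
      set U := Submodule.span F {x} ⊔ Submodule.span F {y}
      refine hp4 hk' hq (plus_of_half hD.isometric hdim (i := i) (U := U)
        (sup_le ((Submodule.span_singleton_le_iff_mem _ _).2 hx)
          ((Submodule.span_singleton_le_iff_mem _ _).2 hy)) (fun z hz => ?_) ?_)
      · obtain ⟨p, hp, r, hr, rfl⟩ := Submodule.mem_sup.1 hz
        obtain ⟨a, rfl⟩ := Submodule.mem_span_singleton.1 hp
        obtain ⟨b, rfl⟩ := Submodule.mem_span_singleton.1 hr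
        rw [quad_add, quad_smul, quad_smul, hQx, hQy, polar_smul_left, polar_smul_right, hxy]
        simp
      · have hlt : Submodule.span F {x} < U :=
          left_lt_sup.2 fun h => hn' (h (Submodule.mem_span_singleton_self y))
        have h1 := Submodule.finrank_lt_finrank_of_lt hlt
        have e1 : Module.finrank F (Submodule.span F {x}) = 1 := finrank_span_singleton hx0
        have h4 : Module.finrank F (Submodule.span F {y}) ≤ 1 :=
          (finrank_span_le_card ({y} : Set (Fin n → F))).trans (by simp)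
        have h5 := Submodule.finrank_add_le_finrank_add_finrank (Submodule.span F {x})
          (Submodule.span F {y})
        change Module.finrank F U ≤ _ at h5
        omega
    · refine decomp_maximal hQ' h2 hOD (by omega) fun hk' => ?_
      rw [Nat.card_eq_fintype_card]
      have h3' := h3 (Or.inr hk')
      have := hodd (hk' ▸ by decide)
      obtain ⟨r, hr⟩ := this
      omega

theorem decomposition_maximal [Fintype F] (hn : 13 ≤ n) {Q : (Fin n → F) → F}
    (hQ : Cfsg.Geo.IsNondegenerateQuadraticForm Q) (hk : 2 ≤ k)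
    (hD : Cfsg.Geo.IsOrthogonalMDecomposition Q k D) (hodd : Odd k → Odd (Fintype.card F))
    (h3 : k = 2 ∨ k = 3 → Fintype.card F ≠ 3)
    (hp2 : k = 2 → (∀ i, Cfsg.Geo.IsPlusTypeOn Q (D i)) →
      Fintype.card F ≠ 2 ∧ Fintype.card F ≠ 4 ∧ Fintype.card F ≠ 5)
    (hp4 : k = 4 → Fintype.card F = 2 → ¬ ∀ i, Cfsg.Geo.IsPlusTypeOn Q (D i)) :
    Cfsg.Geo.IsMaximalIn (Cfsg.Geo.omegaGL Q)
      (Cfsg.Geo.decompositionStabilizer D ⊓ Cfsg.Geo.omegaGL Q) := by
  refine decomposition_maximal_of_seven (by omega) (fun h2 => ?_) hQ hk hD hodd h3 hp2 hp4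
  have htk : t * k = n := by
    obtain ⟨Θ, -⟩ := CfsgLib.Geo.Decomp.exists_coords hD.decomp.decomp
    have := Θ.finrank_eq
    rw [Module.finrank_pi_fintype, show Module.finrank F (Fin n → F) = n by simp] at this
    simpa using this
  subst h2
  omega

end CfsgLib.Geo.OD2
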