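import Cfsg.Agent.Geo.OrthDec2.End

/-!
An element of an overgroup outside the stabiliser of a decomposition into planes gives either a
generating root element or a good vector outside all members.
-/

set_option autoImplicit false
set_option linter.unusedSectionVars false

namespace CfsgLib.Geo.OD2

open QuadraticMap CfsgLib.Forms CfsgLib.Quad CfsgLib.Geo.OS

variable {F V : Type*} [Field F] [AddCommGroup V] [Module F V] [FiniteDimensional F V] [Finite F]
  {Q : QuadraticForm F V} {t k : ℕ} {D : Fin t → Submodule F V}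

/-- Outside the stabiliser some member is not an image of a member. -/
theorem exists_unmatched (hQ : (polarBilin Q).Nondegenerate) (hD : Dec Q k D) {g : oGroup Q}
    (hg : g ∉ decompStab Q D) :
    ∃ m, ∀ l, ∃ x ∈ D l, g.1 x ∉ D m := by
  by_contra hc
  push Not at hc
  choose τ hτ using hc
  have heq : ∀ m, (D (τ m)).map g.1.toLinearMap = D m := fun m =>
    Submodule.eq_of_le_of_finrank_le (by rintro _ ⟨x, hx, rfl⟩; exact hτ m x hx)
      (by rw [LinearEquiv.finrank_map_eq, hD.dim, hD.dim])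
  have hinj : Function.Injective τ := fun a b h =>
    member_inj hQ hD (by rw [← heq a, ← heq b, h])
  let e := Equiv.ofBijective τ (Finite.injective_iff_bijective.1 hinj)
  refine hg (mem_decompStab_of_le hD.dim e.symm fun l x hx => ?_)
  refine hτ (e.symm l) x ?_
  rwa [show τ (e.symm l) = l from e.apply_symm_apply l]

variable (hQ : (polarBilin Q).Nondegenerate) (hD : Dec2 Q D) (hn : 5 ≤ Module.finrank F V)
  {M : Subgroup (oGroup Q)} (hM : decompStab Q D ⊓ commutator (oGroup Q) ≤ M)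

include hQ hD hn hM

theorem rel_images {g : oGroup Q} (hg : g ∈ M) {i j : Fin t} {a b : V} (ha : a ∈ D i)
    (hb : b ∈ D j) (hQa : Q a ≠ 0) (h : Q b = Q a) : Rel M (g.1 a) (g.1 b) :=
  (Rel.member hQ hD.dec hn hM ha hb hQa (by rwa [h]) (by rw [h]; exact IsSquare.mul_self _)).conj hg

/-- An anisotropic member vector whose image misses a new member. -/
theorem of_missing {g : oGroup Q} (hg : g ∈ M) {l : Fin t} {a : V} (ha : a ∈ D l) (hQa : Q a ≠ 0)
    {m : Fin t} (hm : ∀ l', ∃ x ∈ D l', g.1 x ∉ D m) (h0 : pr hQ hD.dec m (g.1 a) = 0) :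
    commutator (oGroup Q) ≤ M ∨ ∃ z, Good D M z ∧ ∀ i, z ∉ D i := by
  obtain ⟨l', x, hx, hxm⟩ : ∃ l', ∃ x ∈ D l', pr hQ hD.dec m (g.1 x) ≠ 0 := by
    by_contra hc
    push Not at hc
    refine member_ne_bot hD.dec m ((Submodule.eq_bot_iff _).2 fun y hy => ?_)
    obtain ⟨x, rfl⟩ := g.1.surjective y
    rw [← pr_of_mem hQ hD.dec hy]
    conv_lhs => rw [← sum_pr hQ hD.dec x]
    rw [map_sum, map_sum]
    exact Finset.sum_eq_zero fun i _ => hc i _ (pr_mem hQ hD.dec i x)
  obtain ⟨v, hv, hQv⟩ := exists_value_mem hD.dec l' hQa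
  obtain ⟨p, q, r, ⟨hp, hQp⟩, ⟨hq, hQq⟩, ⟨hr, hQr⟩, hpq, hpr, hqr⟩ :=
    exists_three hD hv (by rw [hQv]; exact hQa)
  have hne : ∀ y, Q y = Q v → y ≠ 0 := fun y hy => ne_zero_of_aniso hD (by rwa [hy, hQv])
  obtain ⟨z', hz', hz'm⟩ := hm l'
  have two : ∀ y w, y ∈ D l' → w ∈ D l' → Q y = Q v → w ∉ Submodule.span F {y} →
      ¬ (g.1 y ∈ D m ∧ g.1 w ∈ D m) ∧
      ¬ (pr hQ hD.dec m (g.1 y) = 0 ∧ pr hQ hD.dec m (g.1 w) = 0) := by
    intro y w hy hw hQy hwy
    refine ⟨fun h => ?_, fun h => ?_⟩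
    · obtain ⟨s, s', rfl⟩ := exists_coord hD hy hw (hne y hQy) hwy hz'
      exact hz'm (by rw [map_add, map_smul, map_smul]
                     exact (D m).add_mem ((D m).smul_mem _ h.1) ((D m).smul_mem _ h.2))
    · obtain ⟨s, s', rfl⟩ := exists_coord hD hy hw (hne y hQy) hwy hx
      exact hxm (by simp [h.1, h.2])
  obtain ⟨b, hb, hQb, hb1, hb2⟩ : ∃ b ∈ D l', Q b = Q v ∧ pr hQ hD.dec m (g.1 b) ≠ 0 ∧
      g.1 b ∉ D m := by
    by_contra hc
    push Not at hc
    have t1 := two q p hq hp hQq hpq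
    have t2 := two r p hr hp hQr hpr
    have t3 := two r q hr hq hQr hqr
    by_cases A : pr hQ hD.dec m (g.1 p) = 0
    · by_cases B : pr hQ hD.dec m (g.1 q) = 0
      · exact t1.2 ⟨B, A⟩
      · by_cases C : pr hQ hD.dec m (g.1 r) = 0
        · exact t2.2 ⟨C, A⟩
        · exact t3.1 ⟨hc r hr hQr C, hc q hq hQq B⟩
    · by_cases B : pr hQ hD.dec m (g.1 q) = 0
      · by_cases C : pr hQ hD.dec m (g.1 r) = 0
        · exact t3.2 ⟨C, B⟩
        · exact t2.1 ⟨hc r hr hQr C, hc p hp hQp A⟩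
      · exact t1.1 ⟨hc q hq hQq B, hc p hp hQp A⟩
  exact le_or_good hQ hD hn hM (by rw [g.2, hQb, hQv]; exact hQa)
    (rel_images hQ hD hn hM hg hb ha (by rw [hQb, hQv]; exact hQa) (by rw [hQb, hQv])) h0 hb1 hb2

/-- Images of members whose components are singular lines. -/
theorem of_rank_one {g : oGroup Q} (hg : g ∈ M) {l m : Fin t}
    (hker : ∀ a ∈ D l, Q a ≠ 0 → pr hQ hD.dec m (g.1 a) ≠ 0)
    (hker' : ∀ a ∈ D m, Q a ≠ 0 → pr hQ hD.dec l ((g⁻¹).1 a) ≠ 0)
    {e : V} (he : e ∈ D l) (he0 : e ≠ 0) (h0 : pr hQ hD.dec m (g.1 e) = 0) :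
    commutator (oGroup Q) ≤ M := by
  obtain ⟨v, hv, hQv⟩ := exists_aniso_mem hD.dec l
  obtain ⟨a, b, -, ⟨ha, hQa⟩, ⟨hb, hQb⟩, -, hab, -, -⟩ := exists_three hD hv hQv
  have hQe : Q e = 0 := by by_contra h; exact hker e he h h0
  have hbe : b ∉ Submodule.span F {e} := fun h => by
    obtain ⟨s, rfl⟩ := Submodule.mem_span_singleton.1 h
    rw [quad_smul, hQe, mul_zero] at hQb
    exact hQv hQb.symm
  set w := pr hQ hD.dec m (g.1 b)
  have hw0 : w ≠ 0 := hker b hb (by rwa [hQb])
  have hwD : w ∈ D m := pr_mem hQ hD.dec m _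
  have himg : ∀ x ∈ D l, ∃ s : F, pr hQ hD.dec m (g.1 x) = s • w := fun x hx => by
    obtain ⟨s, s', rfl⟩ := exists_coord hD he hb he0 hbe hx
    exact ⟨s', by simp [h0, w]⟩
  -- the image line is singular
  obtain ⟨w', ⟨hw', hw'w⟩, hw'0⟩ := Submodule.exists_mem_ne_zero_of_ne_bot
    (p := D m ⊓ perpS Q (Submodule.span F {w})) (fun h => by
      have := ND.finrank_inf_perp_singleton hQ (D m) w
      rw [h, finrank_bot] at this
      have := hD.dec.dim m
      omega)
  have hww' : polar Q w w' = 0 := hw'w w (Submodule.mem_span_singleton_self w)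
  have hQw' : Q w' = 0 := by
    by_contra hne
    refine hker' w' hw' hne ((pr_eq_zero_iff hQ hD.dec).2 fun x hx => ?_)
    obtain ⟨s, hs⟩ := himg x hx
    rw [← polar_oGroup g, show g.1 ((g⁻¹).1 w') = w' from g.1.apply_symm_apply w',
      ← polar_pr hQ hD.dec hw', hs, polar_smul_right, polar_comm (⇑Q) w' w, hww', smul_zero]
  have hQw : Q w = 0 := by
    obtain ⟨s, hs⟩ := Submodule.mem_span_singleton.1 (perp_mem hD hw' hw'0 hw' hw'0 hwD
      (by rw [polar_self, hQw', smul_zero]) (by rw [polar_comm]; exact hww'))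
    rw [← hs, quad_smul, hQw', mul_zero]
  obtain ⟨α, hα⟩ := himg a ha
  refine le_of_pair hQ hD hn hM (by rw [g.2, hQa]; exact hQv) (by rw [g.2, hQb]; exact hQv)
    (rel_images hQ hD hn hM hg ha hb (by rwa [hQa]) (by rw [hQb, hQa])) hwD hw0 hQw (a := α) hα
    (b := 1) (one_smul F w).symm one_ne_zero fun r s hrs => ?_
  set c := r • a + s • b with hc_def
  have hc : c ∈ D l := (D l).add_mem ((D l).smul_mem _ ha) ((D l).smul_mem _ hb)
  have hgc : g.1 c ∈ D m := by rwa [hc_def, map_add, map_smul, map_smul]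
  obtain ⟨u, hu⟩ := himg c hc
  rw [pr_of_mem hQ hD.dec hgc] at hu
  have hec : polar Q e c = 0 := by
    rw [← polar_oGroup g, ← polar_pr' hQ hD.dec hgc, h0, polar_zero_left]
  obtain ⟨p, hp⟩ := Submodule.mem_span_singleton.1
    (perp_mem hD he he0 he he0 hc (by rw [polar_self, hQe, smul_zero]) hec)
  have hgc0 : g.1 c = 0 := by
    rw [← pr_of_mem hQ hD.dec hgc, ← hp, map_smul, map_smul, h0, smul_zero]
  have hc0 : r • a + s • b = 0 := by
    rw [← hc_def]; exact g.1.map_eq_zero_iff.1 hgc0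
  by_contra hs
  rcases eq_or_ne r 0 with rfl | hr
  · rw [zero_smul, zero_add, smul_eq_zero] at hc0
    exact hc0.elim hs (ne_zero_of_aniso hD (by rwa [hQb]))
  · exact hab (Submodule.mem_span_singleton.2 ⟨-(s / r), smul_right_injective V hr (by
      simp only [smul_smul]
      rw [eq_neg_of_add_eq_zero_left hc0, mul_neg, mul_div_cancel₀ _ hr, neg_smul])⟩)

/-- A member vector whose image has anisotropic components in many members. -/
theorem exists_test {g : oGroup Q} {l : Fin t}
    (hinj : ∀ m, ∀ x ∈ D l, pr hQ hD.dec m (g.1 x) = 0 → x = 0) (S : Finset V) (hS : ∀ x ∈ S, x ∈ D l)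
    (hind : ∀ x ∈ S, ∀ y ∈ S, x ≠ y → x ∉ Submodule.span F {y}) (c : ℕ)
    (hc : S.card * c + 2 * t < S.card * t) :
    ∃ d ∈ S, ∃ G : Finset (Fin t), c < G.card ∧ ∀ i ∈ G, Q (pr hQ hD.dec i (g.1 d)) ≠ 0 := by
  classical
  by_contra hcon
  push Not at hcon
  set G := fun d => (Finset.univ : Finset (Fin t)).filter fun i => Q (pr hQ hD.dec i (g.1 d)) ≠ 0
  set B := fun i => S.filter fun d => ¬ Q (pr hQ hD.dec i (g.1 d)) ≠ 0
  have hB : ∀ i, (B i).card ≤ 2 := by
    intro i
    by_contra h3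
    obtain ⟨x, y, z, hx, hy, hz, hxy, hxz, hyz⟩ := Finset.two_lt_card_iff.1 (not_le.1 h3)
    simp only [B, Finset.mem_filter, not_not] at hx hy hz
    have hk : ∀ p q, p ∈ S → q ∈ S → p ≠ q →
        pr hQ hD.dec i (g.1 p) ∉ Submodule.span F {pr hQ hD.dec i (g.1 q)} := by
      intro p q hp hq hpq h
      obtain ⟨s, hs⟩ := Submodule.mem_span_singleton.1 h
      refine hind p hp q hq hpq (Submodule.mem_span_singleton.2 ⟨s, ?_⟩)
      have := hinj i (p - s • q) ((D l).sub_mem (hS p hp) ((D l).smul_mem _ (hS q hq)))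
        (by rw [map_sub, map_sub, map_smul, map_smul, hs, sub_self])
      rw [sub_eq_zero] at this; exact this.symm
    have hxne : pr hQ hD.dec i (g.1 x) ≠ 0 := fun h => hk x y hx.1 hy.1 hxy
      (by rw [h]; exact Submodule.zero_mem _)
    have hxy0 : polar Q (pr hQ hD.dec i (g.1 x)) (pr hQ hD.dec i (g.1 y)) ≠ 0 := fun h =>
      hk y x hy.1 hx.1 hxy.symm (perp_mem hD (pr_mem hQ hD.dec i _) hxne (pr_mem hQ hD.dec i _) hxne
        (pr_mem hQ hD.dec i _) (by rw [polar_self, hx.2, smul_zero]) h)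
    rcases sing_cases hD (pr_mem hQ hD.dec i _) (pr_mem hQ hD.dec i _) hx.2 hy.2 hxy0
      (pr_mem hQ hD.dec i _) hz.2 with h | h
    exacts [hk z x hz.1 hx.1 hxz.symm h, hk z y hz.1 hy.1 hyz.symm h]
  have h1 : ∑ d ∈ S, (G d).card ≤ S.card * c := by
    refine le_trans (Finset.sum_le_card_nsmul S _ c fun d hd => ?_) (le_of_eq (smul_eq_mul _ _))
    by_contra hlt
    obtain ⟨i, hi, hi'⟩ := hcon d hd (G d) (not_le.1 hlt)
    exact (Finset.mem_filter.1 hi).2 hi'
  have h2 : ∑ d ∈ S, (G d).card + ∑ i, (B i).card = S.card * t := by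
    have hBs : ∑ i, (B i).card =
        ∑ d ∈ S, ((Finset.univ : Finset (Fin t)).filter
          fun i => ¬ Q (pr hQ hD.dec i (g.1 d)) ≠ 0).card := by
      simp only [B, Finset.card_filter]
      exact Finset.sum_comm
    rw [hBs, ← Finset.sum_add_distrib, Finset.sum_congr rfl fun d _ => by
      rw [Finset.card_filter_add_card_filter_not, Finset.card_univ, Fintype.card_fin],
      Finset.sum_const, smul_eq_mul]
  have h3 : ∑ i, (B i).card ≤ 2 * t := by
    refine le_trans (Finset.sum_le_card_nsmul Finset.univ _ 2 fun i _ => hB i) ?_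
    rw [smul_eq_mul, Finset.card_univ, Fintype.card_fin, mul_comm]
  omega

/-- Images of members whose components are whole planes. -/
theorem of_rank_two {g : oGroup Q} (hg : g ∈ M)
    (hinj : ∀ l m, ∀ x ∈ D l, pr hQ hD.dec m (g.1 x) = 0 → x = 0) :
    commutator (oGroup Q) ≤ M ∨ ∃ z, Good D M z ∧ ∀ i, z ∉ D i := by
  classical
  haveI := Fintype.ofFinite F
  let l : Fin t := ⟨0, by have := hD.five; omega⟩
  have hfive := hD.five
  -- the finishing step
  have finish : ∀ d ∈ D l, Q d ≠ 0 → ∀ (l' : Fin t), ∀ b ∈ D l', Q b = Q d → ∀ i j : Fin t, i ≠ j →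
      ∀ ai aj : V, ai ∈ D i → aj ∈ D j → Q ai ≠ 0 → Q aj ≠ 0 → IsSquare (Q ai * Q aj) →
      polar Q (g.1 d) ai = 0 → polar Q (g.1 d) aj = 0 →
      polar Q (g.1 b) ai * polar Q (g.1 b) ai / Q ai +
        polar Q (g.1 b) aj * polar Q (g.1 b) aj / Q aj ≠ 0 →
      commutator (oGroup Q) ≤ M ∨ ∃ z, Good D M z ∧ ∀ i, z ∉ D i := by
    intro d hd hQd l' b hb hQb i j hij ai aj hai haj hQai hQaj hsq hyi hyj hT
    set x := g.1 b
    set σ := refl Q ai * refl Q aj
    have hσ : σ ∈ M := Rel.member hQ hD.dec hn hM hai haj hQai hQaj hsq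
    have hσd : σ.1 (g.1 d) = g.1 d := by
      change (refl Q ai).1 ((refl Q aj).1 (g.1 d)) = _
      rw [refl_fix hyj, refl_fix hyi]
    set δ := (-(Q ai)⁻¹ * polar Q x ai) • ai + (-(Q aj)⁻¹ * polar Q x aj) • aj with hδ_def
    have hσx : σ.1 x = x + δ := by
      change (refl Q ai).1 ((refl Q aj).1 x) = _
      rw [refl_apply aj, map_add, map_smul, refl_fix (hD.dec.orth j i hij.symm aj haj ai hai),
        refl_apply, hδ_def, add_assoc]
    have hQδ : Q δ ≠ 0 := by
      rw [hδ_def, quad_add, quad_smul, quad_smul, polar_smul_left, polar_smul_right,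
        hD.dec.orth i j hij ai hai aj haj, smul_zero, smul_zero, add_zero]
      convert hT using 1
      field_simp
    have hQx : Q x ≠ 0 := by rw [g.2, hQb]; exact hQd
    have hxy : Rel M x (g.1 d) := rel_images hQ hD hn hM hg hb hd (by rwa [hQb]) hQb.symm
    have hrel : Rel M x (x + δ) := by
      have h1 := hxy.conj hσ
      rw [hσx, hσd] at h1
      exact hxy.trans h1.symm
    obtain ⟨hz, hQz⟩ := Rel.refl_diff hQx hQδ (by rw [← hσx, σ.2]) hrel
    obtain ⟨m, hmi, hmj, -, -⟩ := exists_other hD i j i j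
    obtain ⟨p, hpi, hpj, hpm, -⟩ := exists_other hD i j m m
    have hxk : ∀ k, pr hQ hD.dec k x ≠ 0 := fun k h =>
      ne_zero_of_aniso hD (u := b) (by rwa [hQb]) (hinj l' k b hb h)
    have hδk : ∀ k, k ≠ i → k ≠ j → pr hQ hD.dec k δ = 0 := fun k hki hkj => by
      rw [hδ_def, map_add, map_smul, map_smul, pr_of_mem_ne hQ hD.dec hki hai,
        pr_of_mem_ne hQ hD.dec hkj haj, smul_zero, smul_zero, add_zero]
    have hzk : ∀ k, k ≠ i → k ≠ j → pr hQ hD.dec k (δ + (Q δ / Q x) • x) ≠ 0 := fun k hki hkj => by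
      rw [map_add, map_smul, hδk k hki hkj, zero_add]
      exact smul_ne_zero (div_ne_zero hQδ hQx) (hxk k)
    exact le_or_good hQ hD hn hM (by rwa [hQz]) hz (hδk m hmi hmj) (hzk m hmi hmj)
      fun h => hzk p hpi hpj (pr_of_mem_ne hQ hD.dec hpm h)
  -- orthogonal vectors in the members
  have hperp : ∀ (d : V) (i : Fin t), Q (pr hQ hD.dec i (g.1 d)) ≠ 0 →
      ∃ a, a ∈ D i ∧ a ≠ 0 ∧ Q a ≠ 0 ∧ polar Q (g.1 d) a = 0 := by
    intro d i h
    obtain ⟨a, ⟨ha, ha'⟩, ha0⟩ := Submodule.exists_mem_ne_zero_of_ne_bot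
      (p := D i ⊓ perpS Q (Submodule.span F {pr hQ hD.dec i (g.1 d)})) (fun hb => by
        have := ND.finrank_inf_perp_singleton hQ (D i) (pr hQ hD.dec i (g.1 d))
        rw [hb, finrank_bot] at this
        have := hD.dec.dim i
        omega)
    have h1 := ha' _ (Submodule.mem_span_singleton_self _)
    exact ⟨a, ha, ha0, perp_aniso hD (pr_mem hQ hD.dec i _) ha h h1 ha0,
      by rw [← polar_pr' hQ hD.dec ha]; exact h1⟩
  obtain ⟨v, hv, hQv⟩ := exists_aniso_mem hD.dec l
  by_cases h2 : (2 : F) = 0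
  · haveI : CharP F 2 := CharTwo.of_one_ne_zero_of_two_eq_zero one_ne_zero h2
    obtain ⟨a, b, c, ⟨ha, hQa⟩, ⟨hb, hQb⟩, ⟨hc, hQc⟩, hab, hac, hbc⟩ := exists_three hD hv hQv
    have hne : ∀ {p q : V}, p ∉ Submodule.span F {q} → p ≠ q := fun h e =>
      h (e ▸ Submodule.mem_span_singleton_self _)
    have hsym : ∀ {p q : V}, q ≠ 0 → p ∉ Submodule.span F {q} → q ∉ Submodule.span F {p} :=
      fun {p q} hne0 h hm => by
        obtain ⟨s, rfl⟩ := Submodule.mem_span_singleton.1 hm
        rcases eq_or_ne s 0 with rfl | hs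
        · exact hne0 (zero_smul F p)
        · exact h (Submodule.mem_span_singleton.2 ⟨s⁻¹, by rw [smul_smul, inv_mul_cancel₀ hs, one_smul]⟩)
    obtain ⟨d, hd, G, hG, hGd⟩ := exists_test hQ hD hn hM (hinj l) {a, b, c}
      (by simp only [Finset.mem_insert, Finset.mem_singleton]; rintro x (rfl | rfl | rfl) <;> assumption)
      (by
        simp only [Finset.mem_insert, Finset.mem_singleton]
        rintro x (rfl | rfl | rfl) y (rfl | rfl | rfl) hxy <;>
          first
            | exact absurd rfl hxy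
            | assumption
            | exact hsym (ne_zero_of_aniso hD (by simp [*])) (by assumption))
      1 (by
        rw [Finset.card_eq_three.2 ⟨a, b, c, hne hab, hne hac, hne hbc, rfl⟩]
        omega)
    obtain ⟨i, hi, j, hj, hij⟩ := Finset.one_lt_card.1 hG
    have hdl : d ∈ D l ∧ Q d ≠ 0 := by
      simp only [Finset.mem_insert, Finset.mem_singleton] at hd
      rcases hd with rfl | rfl | rfl <;> exact ⟨by assumption, by simp [*]⟩
    obtain ⟨ai, hai, hai0, hQai, hyi⟩ := hperp d i (hGd i hi)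
    obtain ⟨aj, haj, haj0, hQaj, hyj⟩ := hperp d j (hGd j hj)
    obtain ⟨s, hs⟩ := isSquare_char_two (Q aj / Q ai)
    -- a vector with `T ≠ 0`
    obtain ⟨l', e, he, hQe, hne'⟩ : ∃ l', ∃ e ∈ D l', Q e = Q d ∧
        polar Q (g.1 e) (s • ai + aj) ≠ 0 := by
      by_contra hcon
      push Not at hcon
      refine haj0 (ND.eq_zero (hD.dec.nd j) haj fun y hy => ?_)
      have hall : ∀ z, polar Q (g.1 z) (s • ai + aj) = 0 := fun z => by
        have hz : ∀ l', ∀ x ∈ D l', polar Q (g.1 x) (s • ai + aj) = 0 := by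
          intro l' x hx
          obtain ⟨w, hw, hQw⟩ := exists_value_mem hD.dec l' hdl.2
          obtain ⟨p, q, -, ⟨hp, hQp⟩, ⟨hq, hQq⟩, -, hpq, -, -⟩ :=
            exists_three hD hw (by rw [hQw]; exact hdl.2)
          obtain ⟨r, r', rfl⟩ := exists_coord hD hq hp
            (ne_zero_of_aniso hD (by rw [hQq, hQw]; exact hdl.2)) hpq hx
          rw [map_add, map_smul, map_smul, polar_add_left, polar_smul_left, polar_smul_left,
            hcon l' q hq (by rw [hQq, hQw]), hcon l' p hp (by rw [hQp, hQw])]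
          simp
        have hmem : z ∈ iSup D := by rw [hD.dec.top]; trivial
        induction hmem using Submodule.iSup_induction' with
        | mem l' x hx => exact hz l' x hx
        | zero => simp
        | add x y _ _ hx hy => rw [map_add, polar_add_left, hx, hy, add_zero]
      obtain ⟨z, rfl⟩ := g.1.surjective y
      have h1 := hall z
      rwa [polar_add_right, polar_smul_right,
        hD.dec.orth j i hij.symm _ hy ai hai, smul_zero, zero_add] at h1
    refine finish d hdl.1 hdl.2 l' e he hQe i j hij ai aj hai haj hQai hQaj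
      (isSquare_char_two _) hyi hyj fun h0 => hne' ?_
    rw [polar_add_right, polar_smul_right, smul_eq_mul]
    refine mul_self_eq_zero.1 ?_
    rw [CharTwo.add_mul_self]
    have hs' : s * s * Q ai = Q aj := by rw [← hs, div_mul_cancel₀ _ hQai]
    field_simp at h0
    refine (mul_eq_zero.1 (show Q ai * (s * polar Q (g.1 e) ai * (s * polar Q (g.1 e) ai) +
      polar Q (g.1 e) aj * polar Q (g.1 e) aj) = 0 by
        linear_combination (polar Q (g.1 e) ai * polar Q (g.1 e) ai) * hs' + h0)).resolve_left hQai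
  · obtain ⟨ν, hν⟩ := FiniteField.exists_nonsquare (F := F) (fun hc => h2 (by
      have := ringChar.Nat.cast_ringChar (R := F)
      rw [hc] at this
      exact_mod_cast this))
    have hν0 : ν ≠ 0 := fun h => hν (h ▸ IsSquare.zero)
    obtain ⟨u1, hu1, hQu1⟩ := exists_value_mem hD.dec l one_ne_zero
    obtain ⟨u2, hu2, hQu2⟩ := exists_value_mem hD.dec l hν0
    obtain ⟨a, b, c, ⟨ha, hQa⟩, ⟨hb, hQb⟩, ⟨hc, hQc⟩, hab, hac, hbc⟩ :=
      exists_three hD hu1 (by rw [hQu1]; exact one_ne_zero)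
    obtain ⟨a', b', c', ⟨ha', hQa'⟩, ⟨hb', hQb'⟩, ⟨hc', hQc'⟩, hab', hac', hbc'⟩ :=
      exists_three hD hu2 (by rwa [hQu2])
    rw [hQu1] at hQa hQb hQc
    rw [hQu2] at hQa' hQb' hQc'
    set S1 : Finset V := {a, b, c}
    set S2 : Finset V := {a', b', c'}
    have hS1 : ∀ x ∈ S1, x ∈ D l ∧ Q x = 1 := by simp [S1, *]
    have hS2 : ∀ x ∈ S2, x ∈ D l ∧ Q x = ν := by simp [S2, *]
    have hpm : ∀ {p q : V}, Q p = Q q → Q p ≠ 0 → p ∈ Submodule.span F {q} →
        q ∈ Submodule.span F {p} := fun {p q} he hp hm => by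
      obtain ⟨s, rfl⟩ := Submodule.mem_span_singleton.1 hm
      have hs : s ≠ 0 := fun h => hp (by rw [h, zero_smul, map_zero])
      exact Submodule.mem_span_singleton.2 ⟨s⁻¹, by rw [smul_smul, inv_mul_cancel₀ hs, one_smul]⟩
    have hcross : ∀ x ∈ S1, ∀ y ∈ S2, x ∉ Submodule.span F {y} ∧ y ∉ Submodule.span F {x} := by
      intro x hx y hy
      refine ⟨fun h => ?_, fun h => ?_⟩ <;> obtain ⟨s, rfl⟩ := Submodule.mem_span_singleton.1 h
      · have h1 := (hS1 _ hx).2
        rw [quad_smul, (hS2 y hy).2] at h1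
        exact hν ⟨s⁻¹, by
          have hs : s ≠ 0 := fun h0 => by rw [h0] at h1; simp at h1
          field_simp; linear_combination h1⟩
      · have h1 := (hS2 _ hy).2
        rw [quad_smul, (hS1 x hx).2, mul_one] at h1
        exact hν ⟨s, h1.symm⟩
    have hne : ∀ {p q : V}, p ∉ Submodule.span F {q} → p ≠ q := fun h e =>
      h (e ▸ Submodule.mem_span_singleton_self _)
    have hdis : Disjoint S1 S2 := Finset.disjoint_left.2 fun x h1 h2' =>
      hne (hcross x h1 x h2').1 rfl
    obtain ⟨d, hd, G, hG, hGd⟩ := exists_test hQ hD hn hM (hinj l) (S1 ∪ S2)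
      (fun x hx => (Finset.mem_union.1 hx).elim (fun h => (hS1 x h).1) fun h => (hS2 x h).1)
      (by
        intro x hx y hy hxy
        rcases Finset.mem_union.1 hx with hx | hx <;> rcases Finset.mem_union.1 hy with hy | hy
        · intro hm
          have hm' := hpm (by rw [(hS1 x hx).2, (hS1 y hy).2]) (by rw [(hS1 x hx).2]; exact one_ne_zero) hm
          simp only [S1, Finset.mem_insert, Finset.mem_singleton] at hx hy
          rcases hx with rfl | rfl | rfl <;> rcases hy with rfl | rfl | rfl <;>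
            first
              | exact hxy rfl
              | (first | exact hab hm | exact hac hm | exact hbc hm | exact hab hm' | exact hac hm' |
                  exact hbc hm')
        · exact (hcross x hx y hy).1
        · exact (hcross y hy x hx).2
        · intro hm
          have hm' := hpm (by rw [(hS2 x hx).2, (hS2 y hy).2]) (by rw [(hS2 x hx).2]; exact hν0) hm
          simp only [S2, Finset.mem_insert, Finset.mem_singleton] at hx hy
          rcases hx with rfl | rfl | rfl <;> rcases hy with rfl | rfl | rfl <;>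
            first
              | exact hxy rfl
              | (first | exact hab' hm | exact hac' hm | exact hbc' hm | exact hab' hm' |
                  exact hac' hm' | exact hbc' hm'))
      2 (by
        rw [Finset.card_union_of_disjoint hdis,
          Finset.card_eq_three.2 ⟨a, b, c, hne hab, hne hac, hne hbc, rfl⟩,
          Finset.card_eq_three.2 ⟨a', b', c', hne hab', hne hac', hne hbc', rfl⟩]
        omega)
    have hdl : d ∈ D l ∧ Q d ≠ 0 := (Finset.mem_union.1 hd).elim
      (fun h => ⟨(hS1 d h).1, by rw [(hS1 d h).2]; exact one_ne_zero⟩)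
      fun h => ⟨(hS2 d h).1, by rw [(hS2 d h).2]; exact hν0⟩
    choose A hA hA0 hQA hyA using fun i : {i // i ∈ G} => hperp d i (hGd i i.2)
    obtain ⟨i, j, hij, hsq⟩ : ∃ i j : {i // i ∈ G}, i ≠ j ∧ IsSquare (Q (A i) * Q (A j)) := by
      obtain ⟨i, j, k, hi, hj, hk, hij, hik, hjk⟩ := Finset.two_lt_card_iff.1 hG
      by_contra hcon
      push Not at hcon
      have h12 := hcon ⟨i, hi⟩ ⟨j, hj⟩ (fun h => hij (congrArg Subtype.val h))
      have h13 := hcon ⟨i, hi⟩ ⟨k, hk⟩ (fun h => hik (congrArg Subtype.val h))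
      have h23 := hcon ⟨j, hj⟩ ⟨k, hk⟩ (fun h => hjk (congrArg Subtype.val h))
      rw [isSquare_mul_iff h2 (hQA _) (hQA _)] at h12 h13 h23
      tauto
    have hval : ∀ (l' : Fin t), ∀ e ∈ D l', Q e = Q d →
        polar Q (g.1 e) (A i) * polar Q (g.1 e) (A i) / Q (A i) +
          polar Q (g.1 e) (A j) * polar Q (g.1 e) (A j) / Q (A j) ≠ 0 →
        commutator (oGroup Q) ≤ M ∨ ∃ z, Good D M z ∧ ∀ i, z ∉ D i := fun l' e he hQe hT =>
      finish d hdl.1 hdl.2 l' e he hQe i j (fun h => hij (Subtype.ext h)) _ _ (hA i) (hA j)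
        (hQA i) (hQA j) hsq (hyA i) (hyA j) hT
    by_cases hT : ∃ l', ∃ e ∈ D l', Q e = Q d ∧
        polar Q (g.1 e) (A i) * polar Q (g.1 e) (A i) / Q (A i) +
          polar Q (g.1 e) (A j) * polar Q (g.1 e) (A j) / Q (A j) ≠ 0
    · obtain ⟨l', e, he, hQe, hT⟩ := hT
      exact hval l' e he hQe hT
    -- otherwise the preimages of `A i` and `A j` have opposite values
    exfalso
    push Not at hT
    obtain ⟨α, hα⟩ := g.1.surjective (A i)
    obtain ⟨β, hβ⟩ := g.1.surjective (A j)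
    have hzero : ∀ l', Q (pr hQ hD.dec l' β) * Q (A i) =
        -(Q (pr hQ hD.dec l' α) * Q (A j)) := by
      intro l'
      set u := pr hQ hD.dec l' α
      set u' := pr hQ hD.dec l' β
      have hcond : ∀ e ∈ D l', Q e = Q d →
          polar Q e u * polar Q e u * Q (A j) + polar Q e u' * polar Q e u' * Q (A i) = 0 := by
        intro e he hQe
        have h := hT l' e he hQe
        rw [← hα, ← hβ, polar_oGroup, polar_oGroup, hα, hβ, ← polar_pr hQ hD.dec he α,
          ← polar_pr hQ hD.dec he β, div_add_div _ _ (hQA i) (hQA j), div_eq_zero_iff] at h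
        linear_combination h.resolve_right (mul_ne_zero (hQA i) (hQA j))
      obtain ⟨v, hv, hQv'⟩ := exists_value_mem hD.dec l' hdl.2
      obtain ⟨p, q, r, ⟨hp, hQp⟩, ⟨hq, hQq⟩, ⟨hr, hQr⟩, hpq, hpr, hqr⟩ :=
        exists_three hD hv (by rw [hQv']; exact hdl.2)
      rw [hQv'] at hQp hQq hQr
      have hu : u ∈ D l' := pr_mem hQ hD.dec l' α
      have hu' : u' ∈ D l' := pr_mem hQ hD.dec l' β
      rcases eq_or_ne u 0 with hu0 | hu0
      · have hz : ∀ e ∈ D l', Q e = Q d → polar Q e u' = 0 := fun e he hQe => by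
          have h := hcond e he hQe
          rw [hu0, polar_zero_right] at h
          exact mul_self_eq_zero.1 ((mul_eq_zero.1 (show polar Q e u' * polar Q e u' * Q (A i) = 0 by
            linear_combination h)).resolve_right (hQA i))
        have hu'0 : u' = 0 := by
          by_contra hne
          exact hpq (perp_mem hD hu' hne hq (ne_zero_of_aniso hD (by rw [hQq]; exact hdl.2)) hp
            (by rw [polar_comm]; exact hz q hq hQq) (by rw [polar_comm]; exact hz p hp hQp))
        rw [hu0, hu'0, map_zero]; ring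
      obtain ⟨p0, hp0, hp0u, hQp0⟩ : ∃ e ∈ D l', polar Q e u ≠ 0 ∧ Q e = Q d := by
        obtain ⟨e, he, hQe, -, hue⟩ := exists_avoid hD (w := u) hv (by rw [hQv']; exact hdl.2) hu hu0
        exact ⟨e, he, by rwa [polar_comm], by rw [hQe, hQv']⟩
      set c := polar Q p0 u' / polar Q p0 u
      have hc : c * c * Q (A i) = -Q (A j) := by
        have h := hcond p0 hp0 hQp0
        simp only [c]
        field_simp
        linear_combination h
      have hkill : ∀ e ∈ D l', Q e = Q d →
          polar Q e (u' - c • u) = 0 ∨ polar Q e (u' + c • u) = 0 := by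
        intro e he hQe
        have h := hcond e he hQe
        have h3 : (polar Q e u' - c * polar Q e u) * (polar Q e u' + c * polar Q e u) * Q (A i) = 0 :=
          by linear_combination h - (polar Q e u * polar Q e u) * hc
        rcases mul_eq_zero.1 ((mul_eq_zero.1 h3).resolve_right (hQA i)) with h4 | h4
        · exact Or.inl (by rw [polar_sub_right, polar_smul_right, smul_eq_mul]; exact h4)
        · exact Or.inr (by rw [polar_add_right, polar_smul_right, smul_eq_mul]; exact h4)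
      have hone : ∀ w ∈ D l', ∀ e e', e ∈ D l' → e' ∈ D l' → Q e' = Q d →
          e ∉ Submodule.span F {e'} → polar Q e w = 0 → polar Q e' w = 0 → w = 0 := by
        intro w hw e e' he he' hQe' hee h1 h1'
        by_contra hne
        exact hee (perp_mem hD hw hne he' (ne_zero_of_aniso hD (by rw [hQe']; exact hdl.2)) he
          (by rw [polar_comm]; exact h1') (by rw [polar_comm]; exact h1))
      have hfin : u' = c • u ∨ u' = -(c • u) := by
        have hm : u' - c • u ∈ D l' := (D l').sub_mem hu' ((D l').smul_mem _ hu)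
        have hp' : u' + c • u ∈ D l' := (D l').add_mem hu' ((D l').smul_mem _ hu)
        rcases hkill p hp hQp with a1 | a1 <;> rcases hkill q hq hQq with a2 | a2 <;>
          rcases hkill r hr hQr with a3 | a3
        all_goals first
          | exact Or.inl (sub_eq_zero.1 (hone _ hm p q hp hq hQq hpq a1 a2))
          | exact Or.inl (sub_eq_zero.1 (hone _ hm p r hp hr hQr hpr a1 a3))
          | exact Or.inl (sub_eq_zero.1 (hone _ hm q r hq hr hQr hqr a2 a3))
          | exact Or.inr (eq_neg_of_add_eq_zero_left (hone _ hp' p q hp hq hQq hpq a1 a2))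
          | exact Or.inr (eq_neg_of_add_eq_zero_left (hone _ hp' p r hp hr hQr hpr a1 a3))
          | exact Or.inr (eq_neg_of_add_eq_zero_left (hone _ hp' q r hq hr hQr hqr a2 a3))
      rcases hfin with h | h <;>
        simp only [h, QuadraticMap.map_neg, quad_smul] <;> linear_combination Q u * hc
    have hsum : Q β * Q (A i) = -(Q α * Q (A j)) := by
      rw [quad_pr hQ hD.dec β, quad_pr hQ hD.dec α, Finset.sum_mul, Finset.sum_mul,
        ← Finset.sum_neg_distrib]
      exact Finset.sum_congr rfl fun l' _ => hzero l'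
    have hAi : Q α = Q (A i) := by rw [← hα, g.2]
    have hAj : Q β = Q (A j) := by rw [← hβ, g.2]
    rw [hAi, hAj] at hsum
    exact mul_ne_zero h2 (mul_ne_zero (hQA i) (hQA j)) (by linear_combination hsum)

/-- Outside the stabiliser there is a generating root element or a good vector. -/
theorem exists_good (hle : ¬ M ≤ decompStab Q D) :
    commutator (oGroup Q) ≤ M ∨ ∃ z, Good D M z ∧ ∀ i, z ∉ D i := by
  obtain ⟨g, hg, hgX⟩ := SetLike.not_le_iff_exists.1 hle
  by_cases hex : ∃ g ∈ M, g ∉ decompStab Q D ∧ ∃ l m, (∀ l', ∃ x ∈ D l', g.1 x ∉ D m) ∧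
      ∃ a ∈ D l, Q a ≠ 0 ∧ pr hQ hD.dec m (g.1 a) = 0
  · obtain ⟨g, hg, -, l, m, hm, a, ha, hQa, h0⟩ := hex
    exact of_missing hQ hD hn hM hg ha hQa hm h0
  push Not at hex
  have hnot : ∀ g ∈ M, g ∉ decompStab Q D →
      ∀ l m, ∀ a ∈ D l, Q a ≠ 0 → pr hQ hD.dec m (g.1 a) ≠ 0 := by
    intro g hg hgX l m a ha hQa
    refine hex g hg hgX l m (fun l' => ?_) a ha hQa
    by_contra hc
    push Not at hc
    obtain ⟨m', hm'⟩ := exists_unmatched hQ hD.dec hgX
    obtain ⟨v, hv, hQv⟩ := exists_aniso_mem hD.dec l'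
    refine hex g hg hgX l' m' hm' v hv hQv (pr_of_mem_ne hQ hD.dec ?_ (hc v hv))
    rintro rfl
    obtain ⟨x, hx, hxm⟩ := hm' l'
    exact hxm (hc x hx)
  by_cases h1 : ∀ l m, ∀ x ∈ D l, pr hQ hD.dec m (g.1 x) = 0 → x = 0
  · exact of_rank_two hQ hD hn hM hg h1
  push Not at h1
  obtain ⟨l, m, e, he, h0, he0⟩ := h1
  exact Or.inl (of_rank_one hQ hD hn hM hg (hnot g hg hgX l m)
    (hnot g⁻¹ (inv_mem hg) (fun h => hgX (by simpa using inv_mem h)) m l) he he0 h0)

end CfsgLib.Geo.OD2
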