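import Cfsg.Agent.Geo.OrthDec2.Basic

/-!
Facts about non-degenerate planes used as members of an orthogonal decomposition.
-/

set_option autoImplicit false
set_option linter.unusedSectionVars false

namespace CfsgLib.Geo.OD2

open QuadraticMap CfsgLib.Forms CfsgLib.Quad CfsgLib.Geo.OS

variable {F V : Type*} [Field F] [AddCommGroup V] [Module F V] [FiniteDimensional F V] [Finite F]
  {Q : QuadraticForm F V} {t : ℕ}

/-- A decomposition into at least five planes with enough anisotropic lines. -/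
structure Dec2 (Q : QuadraticForm F V) (D : Fin t → Submodule F V) : Prop where
  dec : Dec Q 2 D
  five : 5 ≤ t
  field : ∀ i, ((∀ x ∈ D i, Q x = 0 → x = 0) ∧ Nat.card F ≠ 3) ∨ 7 ≤ Nat.card F

variable (hQ : (polarBilin Q).Nondegenerate) {D : Fin t → Submodule F V} (hD : Dec2 Q D)

include hQ hD

omit hQ in
theorem ne_zero_of_aniso {u : V} (hu : Q u ≠ 0) : u ≠ 0 := fun e => hu (by rw [e, map_zero])

omit hQ in
theorem eq_span_pair {i : Fin t} {u w : V} (hu : u ∈ D i) (hw : w ∈ D i) (hu0 : u ≠ 0)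
    (hwu : w ∉ Submodule.span F {u}) : Submodule.span F {u} ⊔ Submodule.span F {w} = D i := by
  refine Submodule.eq_of_le_of_finrank_le (sup_le ((Submodule.span_singleton_le_iff_mem _ _).2 hu)
    ((Submodule.span_singleton_le_iff_mem _ _).2 hw)) ?_
  have hlt : Submodule.span F {u} < Submodule.span F {u} ⊔ Submodule.span F {w} :=
    left_lt_sup.2 fun h => hwu (h (Submodule.mem_span_singleton_self w))
  have := Submodule.finrank_lt_finrank_of_lt hlt
  have : Module.finrank F (Submodule.span F {u}) = 1 := finrank_span_singleton hu0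
  have := hD.dec.dim i
  omega

omit hQ in
theorem exists_coord {i : Fin t} {u w : V} (hu : u ∈ D i) (hw : w ∈ D i) (hu0 : u ≠ 0)
    (hwu : w ∉ Submodule.span F {u}) {x : V} (hx : x ∈ D i) : ∃ a b : F, x = a • u + b • w := by
  rw [← eq_span_pair hD hu hw hu0 hwu] at hx
  obtain ⟨p, hp, q, hq, rfl⟩ := Submodule.mem_sup.1 hx
  obtain ⟨a, rfl⟩ := Submodule.mem_span_singleton.1 hp
  obtain ⟨b, rfl⟩ := Submodule.mem_span_singleton.1 hq
  exact ⟨a, b, rfl⟩

omit hQ in
/-- In a member, the vectors orthogonal to a non-zero one form a line. -/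
theorem perp_mem {i : Fin t} {u x y : V} (hu : u ∈ D i) (hu0 : u ≠ 0) (hx : x ∈ D i) (hx0 : x ≠ 0)
    (hy : y ∈ D i) (hux : polar Q u x = 0) (huy : polar Q u y = 0) :
    y ∈ Submodule.span F {x} := by
  by_contra h
  refine hu0 (ND.eq_zero (hD.dec.nd i) hu fun z hz => ?_)
  obtain ⟨a, b, rfl⟩ := exists_coord hD hx hy hx0 h hz
  rw [polar_comm, polar_add_right, polar_smul_right, polar_smul_right, hux, huy]; simp

omit hQ in
/-- A non-zero vector orthogonal to an anisotropic one in a member is anisotropic. -/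
theorem perp_aniso {i : Fin t} {u x : V} (hu : u ∈ D i) (hx : x ∈ D i) (hQu : Q u ≠ 0)
    (hux : polar Q u x = 0) (hx0 : x ≠ 0) : Q x ≠ 0 := by
  intro hQx
  have hn : x ∉ Submodule.span F {u} := fun h => by
    obtain ⟨s, rfl⟩ := Submodule.mem_span_singleton.1 h
    rw [quad_smul] at hQx
    exact hx0 (by rw [mul_self_eq_zero.1 ((mul_eq_zero.1 hQx).resolve_right hQu), zero_smul])
  refine hx0 (ND.eq_zero (hD.dec.nd i) hx fun y hy => ?_)
  obtain ⟨a, b, rfl⟩ := exists_coord hD hu hx (ne_zero_of_aniso hD hQu) hn hy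
  rw [polar_add_left, polar_smul_left, polar_smul_left, hux, polar_self, hQx]; simp

omit hQ in
/-- The singular vectors of a member lie on two lines. -/
theorem sing_cases {i : Fin t} {e f : V} (he : e ∈ D i) (hf : f ∈ D i) (hQe : Q e = 0)
    (hQf : Q f = 0) (hef : polar Q e f ≠ 0) {x : V} (hx : x ∈ D i) (hQx : Q x = 0) :
    x ∈ Submodule.span F {e} ∨ x ∈ Submodule.span F {f} := by
  have hfe : f ∉ Submodule.span F {e} := fun h => by
    obtain ⟨s, rfl⟩ := Submodule.mem_span_singleton.1 h
    rw [polar_smul_right, polar_self, hQe] at hef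
    simp at hef
  obtain ⟨a, b, rfl⟩ := exists_coord hD he hf (fun h => hef (by rw [h, polar_zero_left])) hfe hx
  rw [quad_add, quad_smul, quad_smul, hQe, hQf, polar_smul_left, polar_smul_right, smul_eq_mul,
    smul_eq_mul, mul_zero, mul_zero, zero_add, zero_add] at hQx
  rcases mul_eq_zero.1 hQx with h | h
  · rw [h, zero_smul, zero_add]
    exact Or.inr (Submodule.mem_span_singleton.2 ⟨b, rfl⟩)
  · rw [(mul_eq_zero.1 h).resolve_right hef, zero_smul, add_zero]
    exact Or.inl (Submodule.mem_span_singleton.2 ⟨a, rfl⟩)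

omit hQ in
/-- Lower bounds for the number of vectors of a given value in a member. -/
theorem exists_circle {i : Fin t} {u : V} (hu : u ∈ D i) (hQu : Q u ≠ 0) :
    ∃ C : Finset V, (∀ x ∈ C, x ∈ D i ∧ Q x = Q u) ∧ Nat.card F ≤ C.card + 1 ∧
      ((∀ x ∈ D i, Q x = 0 → x = 0) → Nat.card F + 1 ≤ C.card) := by
  classical
  haveI := Fintype.ofFinite F
  haveI : Finite V := Module.finite_of_finite F
  haveI := Fintype.ofFinite V
  have hu0 : u ≠ 0 := ne_zero_of_aniso hD hQu
  obtain ⟨v, hv, hvu⟩ : ∃ v ∈ D i, v ∉ Submodule.span F {u} := by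
    by_contra hc
    push Not at hc
    have h1 := Submodule.finrank_mono (show D i ≤ Submodule.span F {u} from hc)
    have h4 : Module.finrank F (Submodule.span F {u}) = 1 := finrank_span_singleton hu0
    have := hD.dec.dim i
    omega
  -- the anisotropic lines
  let w : Option F → V := fun o => o.elim u (fun s => v + s • u)
  have hw : ∀ o, w o ∈ D i := by
    rintro (_ | s)
    exacts [hu, (D i).add_mem hv ((D i).smul_mem _ hu)]
  have hind : ∀ o o', o ≠ o' → w o ∉ Submodule.span F {w o'} := by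
    rintro (_ | s) (_ | s') hne h <;> obtain ⟨r, hr⟩ := Submodule.mem_span_singleton.1 h <;>
      simp only [w, Option.elim_none, Option.elim_some] at hr
    · exact hne rfl
    · rcases eq_or_ne r 0 with rfl | hr0
      · rw [zero_smul] at hr; exact hu0 hr.symm
      · refine hvu (Submodule.mem_span_singleton.2 ⟨r⁻¹ - s', ?_⟩)
        have := congrArg (r⁻¹ • ·) hr
        simp only [smul_smul, inv_mul_cancel₀ hr0, one_smul] at this
        rw [sub_smul, ← this]; abel
    · exact hvu (Submodule.mem_span_singleton.2 ⟨r - s, by rw [sub_smul, hr]; abel⟩)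
    · rcases eq_or_ne r 1 with rfl | hr1
      · rw [one_smul, add_right_inj] at hr
        exact hne (by rw [smul_left_injective F hu0 hr])
      · refine hvu (Submodule.mem_span_singleton.2 ⟨(r - 1)⁻¹ * (s - r * s'), ?_⟩)
        have hv' : (r - 1) • v = (s - r * s') • u := by
          rw [smul_add] at hr; linear_combination (norm := module) hr
        rw [mul_smul, ← hv', smul_smul, inv_mul_cancel₀ (sub_ne_zero.2 hr1), one_smul]
  let G := (Finset.univ : Finset (Option F)).filter fun o => Q (w o) ≠ 0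
  let C := (Finset.univ : Finset V).filter fun x => x ∈ D i ∧ Q x = Q u
  -- roots
  let B := (Finset.univ : Finset (Option F)).filter fun o => ¬ Q (w o) ≠ 0
  have hB : B.card ≤ 2 ∧ ((∀ x ∈ D i, Q x = 0 → x = 0) → B.card = 0) := by
    refine ⟨?_, fun h => ?_⟩
    · rcases B.eq_empty_or_nonempty with h | ⟨o, ho⟩
      · simp [h]
      simp only [B, Finset.mem_filter, Finset.mem_univ, true_and, not_not] at ho
      rcases o with _ | s
      · exact absurd ho hQu
      refine le_trans (Finset.card_le_card (t := {some s, some (-(polar Q v u) / Q u - s)}) ?_)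
        Finset.card_le_two
      intro o' ho'
      simp only [B, Finset.mem_filter, Finset.mem_univ, true_and, not_not] at ho'
      rcases o' with _ | s'
      · exact absurd ho' hQu
      simp only [Finset.mem_insert, Finset.mem_singleton, Option.some.injEq]
      simp only [w, Option.elim_some, quad_add, quad_smul, polar_smul_right, smul_eq_mul] at ho ho'
      rcases eq_or_ne s' s with h | h
      · exact Or.inl h
      · refine Or.inr ?_
        have h2 : (s' - s) * ((s' + s) * Q u + polar Q v u) = 0 := by linear_combination ho' - ho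
        have h3 := (mul_eq_zero.1 h2).resolve_left (sub_ne_zero.2 h)
        field_simp
        linear_combination h3
    · refine Finset.card_eq_zero.2 (Finset.eq_empty_of_forall_notMem fun o ho => ?_)
      simp only [B, Finset.mem_filter, Finset.mem_univ, true_and, not_not] at ho
      rcases o with _ | s
      · exact hQu ho
      · exact hvu (Submodule.mem_span_singleton.2 ⟨-s, by
          rw [neg_smul, eq_comm, eq_neg_iff_add_eq_zero]; exact h _ (hw (some s)) ho⟩)
  have hG : G.card + B.card = Fintype.card F + 1 := by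
    rw [Finset.card_filter_add_card_filter_not (s := (Finset.univ : Finset (Option F)))
      (fun o => Q (w o) ≠ 0), Finset.card_univ, Fintype.card_option]
  have hGC : G.card ≤ C.card := by
    refine Finset.card_le_card_of_injOn (fun o => (refl Q (w o)).1 u) ?_ ?_
    · intro o _
      simp only [C, Finset.coe_filter, Finset.mem_univ, true_and, Set.mem_setOf_eq]
      exact ⟨by rw [refl_apply]; exact (D i).add_mem hu ((D i).smul_mem _ (hw o)),
        (refl Q (w o)).2 u⟩
    · intro o ho o' ho' h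
      simp only [G, Finset.coe_filter, Finset.mem_univ, true_and, Set.mem_setOf_eq] at ho ho'
      by_contra hne
      simp only [refl_apply, add_right_inj] at h
      have hd0 := fun o => ne_zero_of_aniso hD (u := w o)
      by_cases h1 : polar Q u (w o) = 0
      · by_cases h2 : polar Q u (w o') = 0
        · exact hind o o' hne (perp_mem hD hu hu0 (hw o') (hd0 o' ho') (hw o) h2 h1)
        · rw [h1, mul_zero, zero_smul, eq_comm, smul_eq_zero] at h
          exact h.elim (mul_ne_zero (neg_ne_zero.2 (inv_ne_zero ho')) h2) (hd0 o' ho')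
      · refine hind o o' hne ?_
        rw [← Submodule.smul_mem_iff _ (mul_ne_zero (neg_ne_zero.2 (inv_ne_zero ho)) h1), h]
        exact Submodule.smul_mem _ _ (Submodule.mem_span_singleton_self _)
  refine ⟨C, fun x hx => (Finset.mem_filter.1 hx).2, ?_, fun h => ?_⟩ <;>
    rw [Nat.card_eq_fintype_card]
  · have := hB.1; omega
  · have := hB.2 h; omega

omit hQ in
/-- Each value is attained on three lines. -/
theorem exists_three {i : Fin t} {u : V} (hu : u ∈ D i) (hQu : Q u ≠ 0) :
    ∃ a b c : V, (a ∈ D i ∧ Q a = Q u) ∧ (b ∈ D i ∧ Q b = Q u) ∧ (c ∈ D i ∧ Q c = Q u) ∧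
      a ∉ Submodule.span F {b} ∧ a ∉ Submodule.span F {c} ∧ b ∉ Submodule.span F {c} := by
  classical
  haveI := Fintype.ofFinite F
  obtain ⟨C, hC, hC1, hC2⟩ := exists_circle hD hu hQu
  rw [Nat.card_eq_fintype_card] at hC1 hC2
  have hline : ∀ a x : V, Q a = Q u → Q x = Q u → x ∈ Submodule.span F {a} → x = a ∨ x = -a := by
    intro a x ha hx h
    obtain ⟨r, rfl⟩ := Submodule.mem_span_singleton.1 h
    rw [quad_smul, ha] at hx
    rcases mul_self_eq_one_iff.1 (mul_eq_right₀ hQu |>.1 hx) with rfl | rfl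
    · exact Or.inl (one_smul _ _)
    · exact Or.inr (neg_one_smul _ _)
  have hbig : (2 : F) ≠ 0 ∧ 5 ≤ C.card ∨ (2 : F) = 0 ∧ 3 ≤ C.card := by
    have hq := Fintype.one_lt_card (α := F)
    have hf := hD.field i
    rw [Nat.card_eq_fintype_card] at hf
    by_cases h2 : (2 : F) = 0
    · refine Or.inr ⟨h2, ?_⟩
      rcases hf with ⟨ha, -⟩ | h7
      · have := hC2 ha; omega
      · omega
    · refine Or.inl ⟨h2, ?_⟩
      rcases hf with ⟨ha, h3⟩ | h7
      · have := hC2 ha
        have : Odd (Fintype.card F) := by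
          rw [← Nat.not_even_iff_odd, Nat.even_iff, ← FiniteField.even_card_iff_char_two]
          intro hc
          exact h2 (by
            have := ringChar.Nat.cast_ringChar (R := F)
            rw [hc] at this
            exact_mod_cast this)
        obtain ⟨r, hr⟩ := this
        omega
      · omega
  have hnext : ∀ a b : V, Q a = Q u → Q b = Q u →
      ∃ x ∈ D i, Q x = Q u ∧ x ∉ Submodule.span F {a} ∧ x ∉ Submodule.span F {b} := by
    intro a b ha hb
    obtain ⟨x, hxC, hxS⟩ := Finset.exists_mem_notMem_of_card_lt_card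
      (s := ({a, -a, b, -b} : Finset V)) (t := C) (by
        rcases hbig with ⟨-, h⟩ | ⟨h2, h⟩
        · exact lt_of_le_of_lt Finset.card_le_four h
        · haveI : CharP F 2 := CharTwo.of_one_ne_zero_of_two_eq_zero one_ne_zero h2
          have hneg : ∀ y : V, -y = y := fun y => by
            rw [← neg_one_smul F y, CharTwo.neg_eq, one_smul]
          rw [hneg, hneg]
          refine lt_of_le_of_lt (le_trans (Finset.card_le_card (t := {a, b}) ?_) Finset.card_le_two) h
          intro y; simp)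
    replace hxC := hC x hxC
    simp only [Finset.mem_insert, Finset.mem_singleton, not_or] at hxS
    refine ⟨x, hxC.1, hxC.2, fun h => ?_, fun h => ?_⟩
    · rcases hline a x ha hxC.2 h with h | h
      exacts [hxS.1 h, hxS.2.1 h]
    · rcases hline b x hb hxC.2 h with h | h
      exacts [hxS.2.2.1 h, hxS.2.2.2 h]
  obtain ⟨b, hb, hQb, hbu, -⟩ := hnext u u rfl rfl
  obtain ⟨c, hc, hQc, hcu, hcb⟩ := hnext u b rfl hQb
  exact ⟨c, b, u, ⟨hc, hQc⟩, ⟨hb, hQb⟩, ⟨hu, rfl⟩, hcb, hcu, hbu⟩

omit hQ in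
/-- A vector of given value off a line and not orthogonal to a given vector. -/
theorem exists_avoid {i : Fin t} {v u w : V} (hv : v ∈ D i) (hQv : Q v ≠ 0) (hu : u ∈ D i)
    (hu0 : u ≠ 0) : ∃ a ∈ D i, Q a = Q v ∧ a ∉ Submodule.span F {w} ∧ polar Q u a ≠ 0 := by
  obtain ⟨a, b, c, ⟨ha, hQa⟩, ⟨hb, hQb⟩, ⟨hc, hQc⟩, hab, hac, hbc⟩ := exists_three hD hv hQv
  have h0 : ∀ x, Q x = Q v → x ≠ 0 := fun x hx => ne_zero_of_aniso hD (by rwa [hx])
  have hperp : ∀ x y, x ∈ D i → y ∈ D i → Q y = Q v → x ∉ Submodule.span F {y} →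
      polar Q u x = 0 → polar Q u y ≠ 0 := fun x y hx hy hQy hxy h h' =>
    hxy (perp_mem hD hu hu0 hy (h0 y hQy) hx h' h)
  have hline : ∀ x y, Q y = Q v → x ∉ Submodule.span F {y} → y ∈ Submodule.span F {w} →
      x ∈ Submodule.span F {w} → False := fun x y hQy hxy hy hx => by
    obtain ⟨r, rfl⟩ := Submodule.mem_span_singleton.1 hy
    obtain ⟨s, rfl⟩ := Submodule.mem_span_singleton.1 hx
    rcases eq_or_ne r 0 with rfl | hr
    · exact h0 _ hQy (zero_smul F w)
    · exact hxy (Submodule.mem_span_singleton.2 ⟨s * r⁻¹, by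
        rw [smul_smul, mul_assoc, inv_mul_cancel₀ hr, mul_one]⟩)
  by_cases hwa : a ∈ Submodule.span F {w}
  · by_cases h : polar Q u b = 0
    · exact ⟨c, hc, hQc, fun hwc => hline a c hQc hac hwc hwa, hperp b c hb hc hQc hbc h⟩
    · exact ⟨b, hb, hQb, fun hwb => hline a b hQb hab hwb hwa, h⟩
  · by_cases h : polar Q u a = 0
    · by_cases hwb : b ∈ Submodule.span F {w}
      · exact ⟨c, hc, hQc, fun hwc => hline b c hQc hbc hwc hwb, hperp a c ha hc hQc hac h⟩
      · exact ⟨b, hb, hQb, hwb, hperp a b ha hb hQb hab h⟩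
    · exact ⟨a, ha, hQa, hwa, h⟩

variable (hn : 5 ≤ Module.finrank F V) {M : Subgroup (oGroup Q)}
  (hM : decompStab Q D ⊓ commutator (oGroup Q) ≤ M)

include hn hM

/-- A rotation of one member in `M` moving a given non-zero vector off itself and its negative. -/
theorem exists_rot {i : Fin t} {u : V} (hu : u ∈ D i) (hu0 : u ≠ 0) :
    ∃ σ : oGroup Q, σ ∈ M ∧ σ ∈ decompStab Q D ∧ (∀ x, pr hQ hD.dec i x = 0 → σ.1 x = x) ∧
      σ.1 u ∈ D i ∧ σ.1 u ≠ u ∧ σ.1 u ≠ -u ∧ (Q u ≠ 0 → Q (σ.1 u - u) ≠ 0) := by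
  obtain ⟨v, hv, hQv⟩ := exists_aniso_mem hD.dec i
  obtain ⟨a, b, c, ⟨ha, hQa⟩, ⟨hb, hQb⟩, ⟨hc, hQc⟩, hab, hac, hbc⟩ := exists_three hD hv hQv
  have hne : ∀ x, Q x = Q v → Q x ≠ 0 := fun x hx => by rwa [hx]
  have hsep : ∀ d d', d ∈ D i → d' ∈ D i → Q d ≠ 0 → Q d' ≠ 0 → d ∉ Submodule.span F {d'} →
      (refl Q d).1 u ≠ (refl Q d').1 u := by
    intro d d' hd hd' hQd hQd' hdd h'
    simp only [refl_apply, add_right_inj] at h'
    have hud : polar Q u d = 0 := by
      by_contra hne'
      exact hdd ((Submodule.smul_mem_iff _ (mul_ne_zero (neg_ne_zero.2 (inv_ne_zero hQd)) hne')).1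
        (h'.symm ▸ Submodule.smul_mem _ _ (Submodule.mem_span_singleton_self d')))
    rw [hud, mul_zero, zero_smul, eq_comm, smul_eq_zero] at h'
    have hud' : polar Q u d' = 0 := (mul_eq_zero.1 (h'.resolve_right (ne_zero_of_aniso hD hQd'))
      ).resolve_left (neg_ne_zero.2 (inv_ne_zero hQd'))
    exact hdd (perp_mem hD hu hu0 hd' (ne_zero_of_aniso hD hQd') hd hud' hud)
  have hmove : ∀ d, d ∈ D i → Q d = Q v → d ∉ Submodule.span F {c} →
      (refl Q c * refl Q d).1 u ≠ u := fun d hd hQd hdc h => by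
    refine hsep d c hd hc (hne d hQd) (hne c hQc) hdc ?_
    conv_rhs => rw [← h]
    change _ = (refl Q c * refl Q c).1 ((refl Q d).1 u)
    rw [refl_mul_self]; rfl
  obtain ⟨d, hd, hQd, hdc, hneg⟩ : ∃ d ∈ D i, Q d = Q v ∧ d ∉ Submodule.span F {c} ∧
      (refl Q c * refl Q d).1 u ≠ -u := by
    by_cases h1 : (refl Q c * refl Q a).1 u = -u
    · exact ⟨b, hb, hQb, hbc, fun h2 => hsep a b ha hb (hne a hQa) (hne b hQb) hab
        ((refl Q c).1.injective (h1.trans h2.symm))⟩
    · exact ⟨a, ha, hQa, hac, h1⟩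
  set σ := refl Q c * refl Q d
  have hu' : σ.1 u ∈ D i := by
    change (refl Q c).1 ((refl Q d).1 u) ∈ D i
    simp only [refl_apply]
    exact (D i).add_mem ((D i).add_mem hu ((D i).smul_mem _ hd)) ((D i).smul_mem _ hc)
  refine ⟨σ, Rel.member hQ hD.dec hn hM hc hd (hne c hQc) (hne d hQd)
      (by rw [hQc, hQd]; exact IsSquare.mul_self _),
    mul_mem (refl_mem_stab hQ hD.dec hc) (refl_mem_stab hQ hD.dec hd), fun x hx => ?_, hu',
    hmove d hd hQd hdc, hneg, fun hQu h0 => ?_⟩
  · change (refl Q c).1 ((refl Q d).1 x) = x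
    rw [refl_fix ((pr_eq_zero_iff hQ hD.dec).1 hx d hd),
      refl_fix ((pr_eq_zero_iff hQ hD.dec).1 hx c hc)]
  · have h1 : polar Q u (σ.1 u - u) = 0 := by
      have h2 := quad_add Q u (σ.1 u - u)
      rw [add_sub_cancel, σ.2, h0] at h2
      linear_combination -h2
    exact perp_aniso hD hu ((D i).sub_mem hu' hu) hQu h1 (sub_ne_zero.2 (hmove d hd hQd hdc)) h0

omit hQ hn hM in
/-- Some member avoids four given ones. -/
theorem exists_other (a b c d : Fin t) : ∃ p : Fin t, p ≠ a ∧ p ≠ b ∧ p ≠ c ∧ p ≠ d := by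
  classical
  obtain ⟨p, -, hp⟩ := Finset.exists_mem_notMem_of_card_lt_card
    (s := ({a, b, c, d} : Finset (Fin t))) (t := Finset.univ) (by
      rw [Finset.card_univ, Fintype.card_fin]
      exact lt_of_le_of_lt Finset.card_le_four (by have := hD.five; omega))
  simp only [Finset.mem_insert, Finset.mem_singleton, not_or] at hp
  exact ⟨p, hp⟩

end CfsgLib.Geo.OD2
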