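import Cfsg.Agent.Geo.OrthDec2.Val
import Cfsg.Agent.Geo.OrthDec2.Delta

/-!
A good vector outside all plane members generates.
-/

set_option autoImplicit false
set_option linter.unusedSectionVars false

namespace CfsgLib.Geo.OD2

open QuadraticMap CfsgLib.Forms CfsgLib.Quad CfsgLib.Geo.OS

variable {F V : Type*} [Field F] [AddCommGroup V] [Module F V] [FiniteDimensional F V] [Finite F]
  {Q : QuadraticForm F V} {t : ℕ} {D : Fin t → Submodule F V}
  (hQ : (polarBilin Q).Nondegenerate) (hD : Dec2 Q D)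
  (hn : 5 ≤ Module.finrank F V) {M : Subgroup (oGroup Q)}
  (hM : decompStab Q D ⊓ commutator (oGroup Q) ≤ M)

include hQ hD hn hM

/-- A singular component. -/
theorem le_of_singular_comp {z : V} (hz : Good D M z) (hzD : ∀ m, z ∉ D m) {m : Fin t}
    (he0 : pr hQ hD.dec m z ≠ 0) (hQe : Q (pr hQ hD.dec m z) = 0) :
    commutator (oGroup Q) ≤ M := by
  obtain ⟨i, him, hzi⟩ : ∃ i, i ≠ m ∧ pr hQ hD.dec i z ≠ 0 := by
    by_contra hc
    push Not at hc
    exact hzD m (mem_of_pr hQ hD.dec hc)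
  obtain ⟨p, hp⟩ := exists_other_four hD {m} (by simp)
  rw [Finset.mem_singleton] at hp
  set e := pr hQ hD.dec m z with he_def
  have he : e ∈ D m := pr_mem hQ hD.dec m z
  obtain ⟨d, hd, hQd⟩ := exists_value_mem hD.dec p hz.1
  have hrel : Rel M z d := Good.rel hQ hD.dec hn hM hz hd (by rw [hQd]; exact hz.1)
    (by rw [hQd]; exact IsSquare.mul_self _)
  have h4 : 4 ≤ Nat.card F := by
    rcases hD.field m with ⟨han, -⟩ | h7
    · exact absurd (han e he hQe) he0
    · omega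
  obtain ⟨f0, hf0, hQf0, hef0⟩ := ND.singular_partner (hD.dec.nd m) he he0 hQe
  set f := (polar Q e f0)⁻¹ • f0 with hf_def
  have hf : f ∈ D m := (D m).smul_mem _ hf0
  have hQf : Q f = 0 := by rw [hf_def, quad_smul, hQf0, mul_zero]
  have hef : polar Q e f = 1 := by
    rw [hf_def, polar_smul_right, smul_eq_mul, inv_mul_cancel₀ hef0]
  obtain ⟨s, hs0, hs1, hs2⟩ := exists_ne_pm_one h4
  obtain ⟨hQc, hQc', -, htor⟩ := torus_apply hQe hQf hef (mul_ne_zero hs0 hs0)
  have hc : e + f ∈ D m := (D m).add_mem he hf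
  have hc' : e + (s * s) • f ∈ D m := (D m).add_mem he ((D m).smul_mem _ hf)
  set τ := refl Q (e + f) * refl Q (e + (s * s) • f)
  have hτ : τ ∈ M := Rel.member hQ hD.dec hn hM hc hc' (by rw [hQc]; exact one_ne_zero)
    (by rw [hQc']; exact mul_ne_zero hs0 hs0) (by rw [hQc, hQc', one_mul]; exact IsSquare.mul_self s)
  have hτfix : ∀ x, pr hQ hD.dec m x = 0 → τ.1 x = x := fun x hx => by
    change (refl Q (e + f)).1 ((refl Q (e + (s * s) • f)).1 x) = x
    rw [refl_fix ((pr_eq_zero_iff hQ hD.dec).1 hx _ hc'),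
      refl_fix ((pr_eq_zero_iff hQ hD.dec).1 hx _ hc)]
  have hτz : τ.1 z = z + (s * s - 1) • e := by
    have h1 := hτfix (z - e) (by rw [map_sub, pr_of_mem hQ hD.dec he, he_def, sub_self])
    rw [map_sub, htor, sub_eq_iff_eq_add] at h1
    rw [h1]; module
  have hez : polar Q e z = 0 := by
    rw [← polar_pr hQ hD.dec he, ← he_def, polar_self, hQe, smul_zero]
  have h1 := hrel.conj hτ
  rw [hτz, hτfix d (pr_of_mem_ne hQ hD.dec (Ne.symm hp) hd)] at h1
  have h2 := Rel.siegel_mem hz.1 hQe hez (hrel.trans h1.symm)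
  refine le_of_member_center hQ hD hn hM him.symm he he0 hQe
    (by rw [polar_smul_right, hez, smul_zero]) ?_ h2
  rw [map_smul]
  exact smul_ne_zero (div_ne_zero (sub_ne_zero.2 fun h3 =>
    (mul_self_eq_one_iff.1 h3).elim hs1 hs2) hz.1) hzi

omit hn hM in
/-- The discriminants of two members agree. -/
theorem disc_square (h2 : (2 : F) ≠ 0) {i j : Fin t} {u a u' a' : V} (hu : u ∈ D i) (ha : a ∈ D i)
    (hQu : Q u ≠ 0) (hua : polar Q u a = 0) (hu' : u' ∈ D j) (ha' : a' ∈ D j)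
    (hua' : polar Q u' a' = 0) (hQa : Q a ≠ 0) : IsSquare (Q u * Q a * (Q u' * Q a')) := by
  obtain ⟨φ, hφ⟩ := hD.dec.iso j i
  have hn : a ∉ Submodule.span F {u} := not_mem_span_of_ne (ne_zero_of_aniso hD hQu) hua
    (by rw [polar_self, two_nsmul, ← two_mul]; exact mul_ne_zero h2 hQu) (ne_zero_of_aniso hD hQa)
  obtain ⟨p, r, hpr⟩ := exists_coord hD hu ha (ne_zero_of_aniso hD hQu) hn (φ ⟨u', hu'⟩).2
  obtain ⟨p', r', hpr'⟩ := exists_coord hD hu ha (ne_zero_of_aniso hD hQu) hn (φ ⟨a', ha'⟩).2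
  have hval : ∀ p r : F, Q (p • u + r • a) = p * p * Q u + r * r * Q a := fun p r => by
    rw [quad_add, quad_smul, quad_smul, polar_smul_left, polar_smul_right, hua]; simp
  have hQu' : Q u' = p * p * Q u + r * r * Q a := by rw [← hval, ← hpr]; exact (hφ ⟨_, hu'⟩).symm
  have hQa' : Q a' = p' * p' * Q u + r' * r' * Q a := by rw [← hval, ← hpr']; exact (hφ ⟨_, ha'⟩).symm
  have hor : p * p' * Q u + r * r' * Q a = 0 := by
    have h : Q ((φ ⟨u', hu'⟩ : V) + φ ⟨a', ha'⟩) = Q (u' + a') := by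
      have := hφ (⟨u', hu'⟩ + ⟨a', ha'⟩)
      rw [map_add, Submodule.coe_add] at this
      exact this
    rw [quad_add Q u' a', hua', add_zero, hpr, hpr', hQu', hQa',
      show p • u + r • a + (p' • u + r' • a) = (p + p') • u + (r + r') • a by module, hval] at h
    refine (mul_eq_zero.1 (show (2 : F) * (p * p' * Q u + r * r' * Q a) = 0 by
      linear_combination h)).resolve_left h2
  refine ⟨Q u * Q a * (p * r' - r * p'), ?_⟩
  rw [hQu', hQa']
  linear_combination (Q u * Q a * (p * p' * Q u + r * r' * Q a)) * hor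

/-- Opposite partners move a vector by a singular vector on two members. -/
theorem exists_two_move {i j : Fin t} (hij : i ≠ j) {z : V} (hi : Q (pr hQ hD.dec i z) ≠ 0)
    (hj : Q (pr hQ hD.dec j z) ≠ 0) :
    ∃ w w' di dj, w ∈ D i ∧ w' ∈ D j ∧ Q w ≠ 0 ∧ Q w' = -Q w ∧ di ∈ D i ∧ dj ∈ D j ∧ Q di ≠ 0 ∧
      Q dj = -Q di ∧ polar Q z (di + dj) = 0 ∧ (refl Q w * refl Q w').1 z = z + (di + dj) := by
  obtain ⟨w, hw, w', hw', huw, huw', hQw, hQw'⟩ :=
    exists_balanced hQ hD (pr_mem hQ hD.dec i z) (pr_mem hQ hD.dec j z) hi hj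
  rw [polar_pr' hQ hD.dec hw] at huw
  rw [polar_pr' hQ hD.dec hw'] at huw'
  refine ⟨w, w', (-(Q w)⁻¹) • w, (Q w)⁻¹ • w', hw, hw', hQw, hQw', (D i).smul_mem _ hw,
    (D j).smul_mem _ hw', ?_, ?_, ?_, ?_⟩
  · rw [quad_smul]
    exact mul_ne_zero (mul_ne_zero (neg_ne_zero.2 (inv_ne_zero hQw)) (neg_ne_zero.2 (inv_ne_zero hQw)))
      hQw
  · rw [quad_smul, quad_smul, hQw']; ring
  · rw [polar_add_right, polar_smul_right, polar_smul_right, huw, huw']; simp
  · change (refl Q w).1 ((refl Q w').1 z) = _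
    rw [refl_apply w', huw', hQw', map_add, map_smul, refl_apply, huw,
      refl_fix (hD.dec.orth j i hij.symm w' hw' w hw)]
    module

/-- A zero component and three non-zero ones. -/
theorem le_of_zero_comp {z : V} (hz : Good D M z)
    (hns : ∀ m, pr hQ hD.dec m z ≠ 0 → Q (pr hQ hD.dec m z) ≠ 0) {p i j l : Fin t}
    (hp : pr hQ hD.dec p z = 0) (hij : i ≠ j) (hli : l ≠ i) (hlj : l ≠ j)
    (hi : pr hQ hD.dec i z ≠ 0) (hj : pr hQ hD.dec j z ≠ 0) (hl : pr hQ hD.dec l z ≠ 0) :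
    commutator (oGroup Q) ≤ M := by
  obtain ⟨w, w', di, dj, hw, hw', -, -, hdi, hdj, hQdi, hQdj, hperp, himg⟩ :=
    exists_two_move hQ hD hn hM hij (hns i hi) (hns j hj)
  obtain ⟨h, hh, hhS, hhfix, -⟩ := corr_mem hQ hD.dec hn hM p
    (mul_mem (refl_mem_stab hQ hD.dec hw) (refl_mem_stab hQ hD.dec hw'))
  have hg := Good.map hQ hD.dec hn hM hh hhS hz
  rw [hhfix z hp, himg] at hg
  have hrel : Rel M z (z + (1 : F) • (di + dj)) := by
    rw [one_smul]
    refine Good.trans hQ hD.dec hn hM hz hg ?_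
    rw [← himg, (refl Q w * refl Q w').2]
    exact IsSquare.mul_self _
  have hQδ : Q (di + dj) = 0 := by
    rw [quad_add, hQdj, hD.dec.orth i j hij di hdi dj hdj]; ring
  have hperp' : polar Q (di + dj) z = 0 := by rw [polar_comm]; exact hperp
  refine le_of_delta hQ hD hn hM hij hli hlj hdi hdj hQdi hQdj
    (by rw [polar_smul_right, hperp', smul_zero]) ?_ (Rel.siegel_mem hz.1 hQδ hperp' hrel)
  rw [map_smul]
  exact smul_ne_zero (div_ne_zero one_ne_zero hz.1) hl

/-- All components non-zero. -/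
theorem le_of_full {z : V} (hz : Good D M z) (hns : ∀ m, Q (pr hQ hD.dec m z) ≠ 0) :
    commutator (oGroup Q) ≤ M := by
  classical
  have h5 := hD.five
  obtain ⟨i, j, i', j', l, hij, hii, hij', hil, hji, hjj, hjl, hi'j', hi'l, hj'l⟩ :
      ∃ i j i' j' l : Fin t, i ≠ j ∧ i ≠ i' ∧ i ≠ j' ∧ i ≠ l ∧ j ≠ i' ∧ j ≠ j' ∧ j ≠ l ∧ i' ≠ j' ∧
        i' ≠ l ∧ j' ≠ l :=
    ⟨⟨0, by omega⟩, ⟨1, by omega⟩, ⟨2, by omega⟩, ⟨3, by omega⟩, ⟨4, by omega⟩, by simp⟩
  obtain ⟨w, w', di, dj, hw, hw', hQw, hQw', hdi, hdj, hQdi, hQdj, hp1, hm1⟩ :=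
    exists_two_move hQ hD hn hM hij (hns i) (hns j)
  have hQw0 : Q w' ≠ 0 := by rw [hQw']; exact neg_ne_zero.2 hQw
  have hQdj0 : Q dj ≠ 0 := by rw [hQdj]; exact neg_ne_zero.2 hQdi
  have hla : pr hQ hD.dec l ((1 / Q z) • z) ≠ 0 ∧ Q (pr hQ hD.dec l ((1 / Q z) • z)) ≠ 0 := by
    have hne : Q (pr hQ hD.dec l ((1 / Q z) • z)) ≠ 0 := by
      rw [map_smul, quad_smul]
      exact mul_ne_zero (mul_ne_zero (div_ne_zero one_ne_zero hz.1) (div_ne_zero one_ne_zero hz.1))
        (hns l)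
    exact ⟨ne_zero_of_aniso hD hne, hne⟩
  by_cases hm1sq : IsSquare (-1 : F)
  · -- the pair itself is in `M`
    have hgM : refl Q w * refl Q w' ∈ M := Rel.member hQ hD.dec hn hM hw hw' hQw hQw0 (by
      rw [hQw', show Q w * -Q w = (-1) * (Q w * Q w) by ring]
      exact hm1sq.mul (IsSquare.mul_self _))
    have hg := Good.map hQ hD.dec hn hM hgM
      (mul_mem (refl_mem_stab hQ hD.dec hw) (refl_mem_stab hQ hD.dec hw')) hz
    rw [hm1] at hg
    have hrel : Rel M z (z + (1 : F) • (di + dj)) := by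
      rw [one_smul]
      refine Good.trans hQ hD.dec hn hM hz hg ?_
      rw [← hm1, (refl Q w * refl Q w').2]
      exact IsSquare.mul_self _
    have hQδ : Q (di + dj) = 0 := by
      rw [quad_add, hQdj, hD.dec.orth i j hij di hdi dj hdj]; ring
    have hperp' : polar Q (di + dj) z = 0 := by rw [polar_comm]; exact hp1
    exact le_of_delta hQ hD hn hM hij hil.symm hjl.symm hdi hdj hQdi hQdj
      (by rw [polar_smul_right, hperp', smul_zero]) hla.1 (Rel.siegel_mem hz.1 hQδ hperp' hrel)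
  have h2 : (2 : F) ≠ 0 := fun h => by
    haveI : CharP F 2 := CharTwo.of_one_ne_zero_of_two_eq_zero one_ne_zero h
    exact hm1sq (isSquare_char_two _)
  obtain ⟨v, v', ei, ej, hv, hv', hQv, hQv', hei, hej, hQei, hQej, hp2, hm2⟩ :=
    exists_two_move hQ hD hn hM hi'j' (hns i') (hns j')
  have hQv0 : Q v' ≠ 0 := by rw [hQv']; exact neg_ne_zero.2 hQv
  have hQej0 : Q ej ≠ 0 := by rw [hQej]; exact neg_ne_zero.2 hQei
  set g := reflProd Q [w, w', v, v']
  have hgS : g ∈ decompStab Q D := reflProd_mem_stab hQ hD.dec (by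
    intro x hx
    simp only [List.mem_cons, List.not_mem_nil, or_false] at hx
    rcases hx with rfl | rfl | rfl | rfl
    exacts [⟨i, hw⟩, ⟨j, hw'⟩, ⟨i', hv⟩, ⟨j', hv'⟩])
  have hgM : g ∈ M := by
    refine hM ⟨hgS, (reflProd_mem_commutator_iff hQ (Or.inr (by omega)) ?_).2 ⟨⟨2, rfl⟩, ?_⟩⟩
    · intro x hx
      simp only [List.mem_cons, List.not_mem_nil, or_false] at hx
      rcases hx with rfl | rfl | rfl | rfl <;> assumption
    · simp only [List.map_cons, List.map_nil, List.prod_cons, List.prod_nil, hQw', hQv']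
      exact ⟨Q w * Q v, by ring⟩
  set δ := di + dj + (ei + ej) with hδ_def
  have hgz : g.1 z = z + δ := by
    change (refl Q w).1 ((refl Q w').1 ((refl Q v).1 ((refl Q v').1 z))) = _
    change (refl Q v).1 ((refl Q v').1 z) = _ at hm2
    change (refl Q w).1 ((refl Q w').1 z) = _ at hm1
    have f1 : ∀ {x : V}, polar Q x w = 0 → polar Q x w' = 0 →
        (refl Q w).1 ((refl Q w').1 x) = x := fun h h' => by rw [refl_fix h', refl_fix h]
    rw [hm2, map_add, map_add, hm1, f1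
      (by rw [polar_add_left, hD.dec.orth i' i hii.symm ei hei w hw,
        hD.dec.orth j' i hij'.symm ej hej w hw, add_zero])
      (by rw [polar_add_left, hD.dec.orth i' j hji.symm ei hei w' hw',
        hD.dec.orth j' j hjj.symm ej hej w' hw', add_zero]), hδ_def, add_assoc]
  have hdd : polar Q (di + dj) (ei + ej) = 0 := by
    simp only [polar_add_left, polar_add_right, hD.dec.orth i i' hii di hdi ei hei,
      hD.dec.orth i j' hij' di hdi ej hej, hD.dec.orth j i' hji dj hdj ei hei,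
      hD.dec.orth j j' hjj dj hdj ej hej, add_zero]
  have hQδ : Q δ = 0 := by
    rw [hδ_def, quad_add, hdd, quad_add, quad_add, hQdj, hQej,
      hD.dec.orth i j hij di hdi dj hdj, hD.dec.orth i' j' hi'j' ei hei ej hej]
    ring
  have hδz : polar Q δ z = 0 := by
    rw [polar_comm, hδ_def, polar_add_right, hp1, hp2, add_zero]
  have hgood := Good.map hQ hD.dec hn hM hgM hgS hz
  rw [hgz] at hgood
  have hrel : Rel M z (z + (1 : F) • δ) := by
    rw [one_smul]
    refine Good.trans hQ hD.dec hn hM hz hgood ?_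
    rw [← hgz, g.2]; exact IsSquare.mul_self _
  have hsieg := Rel.siegel_mem hz.1 hQδ hδz hrel
  set a := (1 / Q z) • z with ha_def
  have hlδ : pr hQ hD.dec l δ = 0 := by
    rw [hδ_def, map_add, map_add, map_add, pr_of_mem_ne hQ hD.dec hil.symm hdi,
      pr_of_mem_ne hQ hD.dec hjl.symm hdj, pr_of_mem_ne hQ hD.dec hi'l.symm hei,
      pr_of_mem_ne hQ hD.dec hj'l.symm hej]
    simp
  obtain ⟨σ, hσ, -, hσfix, hσu, -, -, hσan⟩ :=
    exists_rot hQ hD hn hM (pr_mem hQ hD.dec l a) hla.1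
  obtain ⟨hδe, heM⟩ := root_move hQδ (by rw [ha_def, polar_smul_right, hδz, smul_zero]) hσ
    (hσfix δ hlδ) hsieg
  have he_eq : σ.1 a - a = σ.1 (pr hQ hD.dec l a) - pr hQ hD.dec l a := by
    have h1 := hσfix (a - pr hQ hD.dec l a)
      (by rw [map_sub, pr_of_mem hQ hD.dec (pr_mem hQ hD.dec l a), sub_self])
    rw [map_sub, sub_eq_iff_eq_add] at h1
    rw [h1]; abel
  rw [he_eq] at hδe heM
  set e := σ.1 (pr hQ hD.dec l a) - pr hQ hD.dec l a
  have he : e ∈ D l := (D l).sub_mem hσu (pr_mem hQ hD.dec l a)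
  have hQe : Q e ≠ 0 := hσan hla.2
  have hgood_line : ∀ r : F, r ≠ 0 → siegel Q δ (r • e) ∈ M →
      Good D M (e + (r * Q e) • δ) ∧ Q (e + (r * Q e) • δ) = Q e := by
    intro r hr h
    have hre : Q (r • e) ≠ 0 := by rw [quad_smul]; exact mul_ne_zero (mul_ne_zero hr hr) hQe
    have hre' : polar Q δ (r • e) = 0 := by rw [polar_smul_right, hδe, smul_zero]
    have hval : Q (e + (r * Q e) • δ) = Q e := by
      rw [quad_add, quad_smul, hQδ, polar_smul_right, polar_comm, hδe]; simp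
    have h1 := Rel.of_siegel hre hQδ hre' h
    rw [show r • e + Q (r • e) • δ = r • (e + (r * Q e) • δ) by rw [quad_smul]; module,
      Rel.smul_left hr] at h1
    have h3 := h1.symm
    rw [Rel.smul_left hr] at h3
    exact ⟨Good.of_rel hQ hD.dec hn hM (by rwa [hval]) (by rw [hval]; exact IsSquare.mul_self _) h3
      (Good.member hQ hD.dec hn hM he hQe), hval⟩
  obtain ⟨hG1, hQ1⟩ := hgood_line 1 one_ne_zero (by rwa [one_smul])
  obtain ⟨hG2, hQ2⟩ := hgood_line 2 h2 (by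
    rw [two_smul, ← siegel_mul hQδ hδe hδe]; exact mul_mem heM heM)
  rw [one_mul] at hG1 hQ1
  -- negate the second pair
  have hperpv : ∀ (m : Fin t) (x : V), x ∈ D m → Q x ≠ 0 →
      ∃ y ∈ D m, polar Q x y = 0 ∧ Q y ≠ 0 := by
    intro m x hx hQx
    obtain ⟨y, ⟨hy, hy'⟩, hy0⟩ := Submodule.exists_mem_ne_zero_of_ne_bot
      (p := D m ⊓ perpS Q (Submodule.span F {x})) (fun h => by
        have := ND.finrank_inf_perp_singleton hQ (D m) x
        rw [h, finrank_bot] at this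
        have := hD.dec.dim m
        omega)
    have hxy := hy' x (Submodule.mem_span_singleton_self x)
    exact ⟨y, hy, hxy, perp_aniso hD hx hy hQx hxy hy0⟩
  obtain ⟨ai, hai, hdai, hQai⟩ := hperpv i di hdi hQdi
  obtain ⟨aj, haj, hdaj, hQaj⟩ := hperpv j dj hdj hQdj0
  have hdet := disc_square hQ hD h2 hdi hai hQdi hdai hdj haj hdaj hQai
  rw [hQdj] at hdet
  set f := reflProd Q [ei, ej, ai, aj]
  have hfS : f ∈ decompStab Q D := reflProd_mem_stab hQ hD.dec (by
    intro x hx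
    simp only [List.mem_cons, List.not_mem_nil, or_false] at hx
    rcases hx with rfl | rfl | rfl | rfl
    exacts [⟨i', hei⟩, ⟨j', hej⟩, ⟨i, hai⟩, ⟨j, haj⟩])
  have hf : f ∈ M := by
    refine hM ⟨hfS, (reflProd_mem_commutator_iff hQ (Or.inr (by omega)) ?_).2 ⟨⟨2, rfl⟩, ?_⟩⟩
    · intro x hx
      simp only [List.mem_cons, List.not_mem_nil, or_false] at hx
      rcases hx with rfl | rfl | rfl | rfl <;> assumption
    · simp only [List.map_cons, List.map_nil, List.prod_cons, List.prod_nil, hQej]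
      obtain ⟨r, hr⟩ := hdet
      refine ⟨Q ei * r / Q di, ?_⟩
      field_simp
      linear_combination hr
  have hfix : ∀ {x : V} {m : Fin t}, x ∈ D m → m ≠ i' → m ≠ j' →
      (m = i → polar Q x ai = 0) → (m = j → polar Q x aj = 0) → f.1 x = x := by
    intro x m hx h1 h1' h3 h4
    have o1 : polar Q x ai = 0 := by
      rcases eq_or_ne m i with h | h
      · exact h3 h
      · exact hD.dec.orth m i h x hx ai hai
    have o2 : polar Q x aj = 0 := by
      rcases eq_or_ne m j with h | h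
      · exact h4 h
      · exact hD.dec.orth m j h x hx aj haj
    change (refl Q ei).1 ((refl Q ej).1 ((refl Q ai).1 ((refl Q aj).1 x))) = x
    rw [refl_fix o2, refl_fix o1, refl_fix (hD.dec.orth m j' h1' x hx ej hej),
      refl_fix (hD.dec.orth m i' h1 x hx ei hei)]
  have hfe : f.1 e = e := hfix he hi'l.symm hj'l.symm (fun h => absurd h hil.symm)
    (fun h => absurd h hjl.symm)
  have hfdi : f.1 di = di := hfix hdi hii hij' (fun _ => hdai) (fun h => absurd h hij)
  have hfdj : f.1 dj = dj := hfix hdj hji hjj (fun h => absurd h hij.symm) (fun _ => hdaj)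
  have hfei : f.1 ei = -ei := by
    change (refl Q ei).1 ((refl Q ej).1 ((refl Q ai).1 ((refl Q aj).1 ei))) = -ei
    rw [refl_fix (hD.dec.orth i' j hji.symm ei hei aj haj),
      refl_fix (hD.dec.orth i' i hii.symm ei hei ai hai),
      refl_fix (hD.dec.orth i' j' hi'j' ei hei ej hej), refl_self hQei]
  have hfej : f.1 ej = -ej := by
    change (refl Q ei).1 ((refl Q ej).1 ((refl Q ai).1 ((refl Q aj).1 ej))) = -ej
    rw [refl_fix (hD.dec.orth j' j hjj.symm ej hej aj haj),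
      refl_fix (hD.dec.orth j' i hij'.symm ej hej ai hai), refl_self hQej0, map_neg,
      refl_fix (hD.dec.orth j' i' hi'j'.symm ej hej ei hei)]
  have hG2' := Good.map hQ hD.dec hn hM hf hfS hG2
  have hfimg : f.1 (e + (2 * Q e) • δ) = e + (2 * Q e) • (di + dj - (ei + ej)) := by
    rw [hδ_def, map_add, map_smul, map_add, map_add, map_add, hfe, hfdi, hfdj, hfei, hfej]
    module
  rw [hfimg] at hG2'
  set x := e + (2 * Q e) • (di + dj - (ei + ej))
  have hQx : Q x = Q e := by rw [← hfimg, f.2, hQ2]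
  have hb : polar Q x (e + Q e • δ) = 2 * Q e := by
    have hedd : polar Q e (di + dj) = 0 := by
      rw [polar_add_right, hD.dec.orth l i hil.symm e he di hdi,
        hD.dec.orth l j hjl.symm e he dj hdj, add_zero]
    have heee : polar Q e (ei + ej) = 0 := by
      rw [polar_add_right, hD.dec.orth l i' hi'l.symm e he ei hei,
        hD.dec.orth l j' hj'l.symm e he ej hej, add_zero]
    have hqd : Q (di + dj) = 0 := by
      rw [quad_add, hQdj, hD.dec.orth i j hij di hdi dj hdj]; ring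
    have hqe : Q (ei + ej) = 0 := by
      rw [quad_add, hQej, hD.dec.orth i' j' hi'j' ei hei ej hej]; ring
    rw [hδ_def]
    simp only [x]
    revert hdd hedd heee hqd hqe
    generalize di + dj = A
    generalize ei + ej = B
    intro hdd hedd heee hqd hqe
    simp only [polar_add_left, polar_smul_left, polar_sub_left, polar_add_right,
      polar_smul_right, polar_sub_right, polar_self, two_nsmul, hedd, heee, hqd, hqe, smul_eq_mul,
      hdd, polar_comm (⇑Q) B A, polar_comm (⇑Q) A e,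
      polar_comm (⇑Q) B e, mul_zero, add_zero, sub_zero, zero_add, sub_self]
    ring
  have hz3 := Good.refl hQ hD.dec hn hM hG1 hG2' (by rw [hQ1, hQx]; exact IsSquare.mul_self _)
  have himg : (refl Q (e + Q e • δ)).1 x = -e + (-(4 * Q e)) • (ei + ej) := by
    rw [refl_apply, hQ1, hb]
    simp only [x, hδ_def]
    match_scalars <;> field_simp <;> ring
  rw [himg] at hz3
  set k := -(4 * Q e)
  have hk : k ≠ 0 := neg_ne_zero.2 (mul_ne_zero (by
    rw [show (4 : F) = 2 * 2 by norm_num]; exact mul_ne_zero h2 h2) hQe)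
  have hcomp : ∀ m, pr hQ hD.dec m (-e + k • (ei + ej)) =
      -pr hQ hD.dec m e + k • pr hQ hD.dec m ei + k • pr hQ hD.dec m ej := fun m => by
    rw [map_add, map_neg, map_smul, map_add, smul_add, ← add_assoc]
  have hz' : ∀ {x : V} {m n : Fin t}, x ∈ D n → m ≠ n → pr hQ hD.dec m x = 0 :=
    fun hx h => pr_of_mem_ne hQ hD.dec h hx
  have hval : ∀ {y : V}, Q y ≠ 0 → Q (k • y) ≠ 0 := fun hy => by
    rw [quad_smul]; exact mul_ne_zero (mul_ne_zero hk hk) hy
  refine le_of_zero_comp hQ hD hn hM hz3 (fun m hm => ?_) (p := i) ?_ (i := i') (j := j') (l := l)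
    hi'j' hi'l.symm hj'l.symm ?_ ?_ ?_
  · rw [hcomp] at hm ⊢
    rcases eq_or_ne m l with rfl | h1
    · simpa [hz' hei hi'l.symm, hz' hej hj'l.symm, pr_of_mem hQ hD.dec he] using hQe
    rcases eq_or_ne m i' with rfl | h3
    · simpa [hz' he hi'l, hz' hej hi'j', pr_of_mem hQ hD.dec hei] using hval hQei
    rcases eq_or_ne m j' with rfl | h4
    · simpa [hz' he hj'l, hz' hei hi'j'.symm, pr_of_mem hQ hD.dec hej] using hval hQej0
    exact absurd (by simp [hz' he h1, hz' hei h3, hz' hej h4]) hm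
  · rw [hcomp]; simp [hz' he hil, hz' hei hii, hz' hej hij']
  · rw [hcomp]
    simpa [hz' he hi'l, hz' hej hi'j', pr_of_mem hQ hD.dec hei]
      using ne_zero_of_aniso hD (hval hQei)
  · rw [hcomp]
    simpa [hz' he hj'l, hz' hei hi'j'.symm, pr_of_mem hQ hD.dec hej]
      using ne_zero_of_aniso hD (hval hQej0)
  · rw [hcomp]
    simpa [hz' hei hi'l.symm, hz' hej hj'l.symm, pr_of_mem hQ hD.dec he]
      using ne_zero_of_aniso hD hQe

/-- Exactly two components. -/
theorem le_of_two_comp {z : V} (hz : Good D M z) {i j : Fin t} (hij : i ≠ j)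
    (hi : Q (pr hQ hD.dec i z) ≠ 0) (hj : Q (pr hQ hD.dec j z) ≠ 0)
    (hzero : ∀ m, m ≠ i → m ≠ j → pr hQ hD.dec m z = 0) : commutator (oGroup Q) ≤ M := by
  classical
  haveI := Fintype.ofFinite F
  obtain ⟨r, hr⟩ := exists_other_four hD {i, j} (le_trans Finset.card_le_two (by omega))
  obtain ⟨p, hp⟩ := exists_other_four hD {i, j, r} (by grind)
  simp only [Finset.mem_insert, Finset.mem_singleton, not_or] at hr hp
  obtain ⟨hri, hrj⟩ := hr
  obtain ⟨hpi, hpj, hpr⟩ := hp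
  set u := pr hQ hD.dec i z
  set u' := pr hQ hD.dec j z
  have hu : u ∈ D i := pr_mem hQ hD.dec i z
  have hu' : u' ∈ D j := pr_mem hQ hD.dec j z
  have hzeq : z = u + u' := by
    conv_lhs => rw [← sum_pr hQ hD.dec z]
    rw [← Finset.sum_subset (Finset.subset_univ {i, j}) (fun m _ hm => by
      simp only [Finset.mem_insert, Finset.mem_singleton, not_or] at hm
      exact hzero m hm.1 hm.2), Finset.sum_pair hij]
  obtain ⟨s, hs, hsj, -, -, hsfix⟩ := exists_swap hQ hD.dec (i := j) (j := r) (Ne.symm hrj)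
  obtain ⟨h1, hh1, hh1S, hh1fix, -⟩ := corr_mem hQ hD.dec hn hM p hs
  have hgood1 := Good.map hQ hD.dec hn hM hh1 hh1S hz
  rw [hh1fix z (hzero p hpi hpj), hzeq, map_add,
    hsfix u (pr_of_mem_ne hQ hD.dec hij.symm hu) (pr_of_mem_ne hQ hD.dec hri hu)] at hgood1
  set x' := s.1 u'
  have hx' : x' ∈ D r := hsj u' hu'
  have hx'0 : Q x' ≠ 0 := by rwa [s.2]
  obtain ⟨c, hc, hQc, hcu, hzc, hT⟩ : ∃ c ∈ D i, Q c ≠ 0 ∧ c ∉ Submodule.span F {u} ∧
      polar Q u c ≠ 0 ∧ polar Q u c * polar Q u c ≠ 2 * Q u * Q c := by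
    by_cases h2 : (2 : F) = 0
    · obtain ⟨c, hc, hQc, hcu, hzc⟩ := exists_avoid hD (w := u) hu hi hu (ne_zero_of_aniso hD hi)
      refine ⟨c, hc, by rwa [hQc], hcu, hzc, fun h => mul_ne_zero hzc hzc ?_⟩
      rw [h, h2, zero_mul, zero_mul]
    · obtain ⟨ν, hν⟩ := FiniteField.exists_nonsquare (F := F) (fun hc => h2 (by
        have := ringChar.Nat.cast_ringChar (R := F)
        rw [hc] at this
        exact_mod_cast this))
      have hν0 : ν ≠ 0 := fun h => hν (h ▸ IsSquare.zero)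
      obtain ⟨v, hv, hQv⟩ := exists_value_mem hD.dec i
        (mul_ne_zero (mul_ne_zero h2 hi) hν0 : 2 * Q u * ν ≠ 0)
      obtain ⟨c, hc, hQc, hcu, hzc⟩ := exists_avoid hD (w := u) hv
        (by rw [hQv]; exact mul_ne_zero (mul_ne_zero h2 hi) hν0) hu (ne_zero_of_aniso hD hi)
      refine ⟨c, hc, by rw [hQc, hQv]; exact mul_ne_zero (mul_ne_zero h2 hi) hν0, hcu, hzc,
        fun h => hν ⟨polar Q u c / (2 * Q u), ?_⟩⟩
      rw [hQc, hQv] at h
      have := mul_ne_zero h2 hi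
      field_simp
      linear_combination -h
  obtain ⟨h3, hh3, hh3S, hh3fix, -⟩ := corr_mem hQ hD.dec hn hM p (refl_mem_stab hQ hD.dec hc)
  have hgood2 := Good.map hQ hD.dec hn hM hh3 hh3S hgood1
  rw [hh3fix _ (by rw [map_add, pr_of_mem_ne hQ hD.dec hpi hu, pr_of_mem_ne hQ hD.dec hpr hx',
    add_zero]), map_add, refl_fix (hD.dec.orth r i hri x' hx' c hc)] at hgood2
  set v := (refl Q c).1 u + x' with hv_def
  have hQv : Q v = Q z := by
    rw [hv_def, hzeq, quad_add, quad_add, (refl Q c).2, s.2,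
      hD.dec.orth i r (Ne.symm hri) _ (by
        rw [refl_apply]; exact (D i).add_mem hu ((D i).smul_mem _ hc)) x' hx',
      hD.dec.orth i j hij u hu u' hu']
  have hbvz : polar Q v z = -(Q c)⁻¹ * (polar Q u c * polar Q u c) + 2 * Q u := by
    rw [hv_def, hzeq]
    simp only [refl_apply, polar_add_left, polar_add_right, polar_smul_left, smul_eq_mul,
      hD.dec.orth i j hij u hu u' hu', hD.dec.orth r i hri x' hx' u hu,
      hD.dec.orth r j hrj x' hx' u' hu', hD.dec.orth i j hij c hc u' hu', polar_self, mul_zero,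
      add_zero, polar_comm (⇑Q) c u, two_nsmul]
    ring
  have hb0 : polar Q v z ≠ 0 := by
    rw [hbvz]
    intro h
    refine hT ?_
    field_simp at h
    linear_combination -h
  have hz3 := Good.refl hQ hD.dec hn hM hz hgood2
    (by rw [hQv]; exact IsSquare.mul_self _)
  rw [refl_apply] at hz3
  set k := -(Q z)⁻¹ * polar Q v z
  have hk : k ≠ 0 := mul_ne_zero (neg_ne_zero.2 (inv_ne_zero hz.1)) hb0
  set z3 := v + k • z with hz3_def
  have hRD : (refl Q c).1 u ∈ D i := by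
    rw [refl_apply]; exact (D i).add_mem hu ((D i).smul_mem _ hc)
  have hcomp : ∀ m, pr hQ hD.dec m z3 = pr hQ hD.dec m ((refl Q c).1 u) + pr hQ hD.dec m x' +
      k • pr hQ hD.dec m z := fun m => by rw [hz3_def, hv_def, map_add, map_add, map_smul]
  have h3i : pr hQ hD.dec i z3 ≠ 0 := by
    rw [hcomp, pr_of_mem hQ hD.dec hRD, pr_of_mem_ne hQ hD.dec (Ne.symm hri) hx', add_zero,
      refl_apply]
    intro h0
    refine hcu ((Submodule.smul_mem_iff _ (mul_ne_zero (neg_ne_zero.2 (inv_ne_zero hQc)) hzc)).1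
      (Submodule.mem_span_singleton.2 ⟨-(1 + k), ?_⟩))
    have h0' : u + (-(Q c)⁻¹ * polar Q u c) • c + k • u = 0 := h0
    linear_combination (norm := module) -h0'
  have h3j : pr hQ hD.dec j z3 ≠ 0 := by
    rw [hcomp, pr_of_mem_ne hQ hD.dec hij.symm hRD, pr_of_mem_ne hQ hD.dec (Ne.symm hrj) hx',
      add_zero, zero_add]
    exact smul_ne_zero hk (ne_zero_of_aniso hD hj)
  have h3r : pr hQ hD.dec r z3 ≠ 0 := by
    rw [hcomp, pr_of_mem_ne hQ hD.dec hri hRD, pr_of_mem hQ hD.dec hx', hzero r hri hrj,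
      smul_zero, add_zero, zero_add]
    exact ne_zero_of_aniso hD hx'0
  have h3p : pr hQ hD.dec p z3 = 0 := by
    rw [hcomp, pr_of_mem_ne hQ hD.dec hpi hRD, pr_of_mem_ne hQ hD.dec hpr hx', hzero p hpi hpj]
    simp
  by_cases hs3 : ∃ m, pr hQ hD.dec m z3 ≠ 0 ∧ Q (pr hQ hD.dec m z3) = 0
  · obtain ⟨m, hm, hQm⟩ := hs3
    refine le_of_singular_comp hQ hD hn hM hz3 (fun m' hm' => ?_) hm hQm
    rcases eq_or_ne m' i with rfl | hne
    · exact h3j (pr_of_mem_ne hQ hD.dec hij.symm hm')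
    · exact h3i (pr_of_mem_ne hQ hD.dec (Ne.symm hne) hm')
  push Not at hs3
  exact le_of_zero_comp hQ hD hn hM hz3 hs3 h3p hij hri hrj h3i h3j h3r

/-- A good vector outside the members generates. -/
theorem le_of_good {z : V} (hz : Good D M z) (hzD : ∀ m, z ∉ D m) :
    commutator (oGroup Q) ≤ M := by
  classical
  by_cases hs : ∃ m, pr hQ hD.dec m z ≠ 0 ∧ Q (pr hQ hD.dec m z) = 0
  · obtain ⟨m, hm, hQm⟩ := hs
    exact le_of_singular_comp hQ hD hn hM hz hzD hm hQm
  push Not at hs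
  by_cases hall : ∀ m, pr hQ hD.dec m z ≠ 0
  · exact le_of_full hQ hD hn hM hz fun m => hs m (hall m)
  push Not at hall
  obtain ⟨p, hp⟩ := hall
  obtain ⟨i, hi⟩ := exists_pr_ne hQ hD.dec (ne_zero_of_aniso hD hz.1)
  obtain ⟨j, hji, hj⟩ : ∃ j, j ≠ i ∧ pr hQ hD.dec j z ≠ 0 := by
    by_contra hc
    push Not at hc
    exact hzD i (mem_of_pr hQ hD.dec hc)
  by_cases h3 : ∃ l, l ≠ i ∧ l ≠ j ∧ pr hQ hD.dec l z ≠ 0
  · obtain ⟨l, hli, hlj, hl⟩ := h3
    exact le_of_zero_comp hQ hD hn hM hz hs hp hji.symm hli hlj hi hj hl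
  push Not at h3
  exact le_of_two_comp hQ hD hn hM hz hji.symm (hs i hi) (hs j hj) h3

end CfsgLib.Geo.OD2
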