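import Cfsg.Agent.Geo.OrthDec2.Outside
import Cfsg.Agent.Geo.OrthDec2.Spread

/-!
The stabiliser in `Ω` of an orthogonal decomposition into at least five planes is maximal.
-/

set_option autoImplicit false
set_option linter.unusedSectionVars false

namespace CfsgLib.Geo.OD2

open QuadraticMap CfsgLib.Forms CfsgLib.Quad CfsgLib.Geo.OS

variable {F V : Type*} [Field F] [AddCommGroup V] [Module F V] [FiniteDimensional F V] [Finite F]
  {Q : QuadraticForm F V} {t : ℕ} {D : Fin t → Submodule F V}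
  (hQ : (polarBilin Q).Nondegenerate) (hD : Dec2 Q D) (hn : 5 ≤ Module.finrank F V)

include hQ hD hn

theorem plane_proper : ¬ commutator (oGroup Q) ≤ decompStab Q D := by
  intro hle
  have h7 := hD.five
  obtain ⟨i, j, l, hij, hil, hjl⟩ : ∃ i j l : Fin t, i ≠ j ∧ i ≠ l ∧ j ≠ l :=
    ⟨⟨0, by omega⟩, ⟨1, by omega⟩, ⟨2, by omega⟩, by simp⟩
  obtain ⟨d, hd, hQd⟩ := exists_aniso_mem hD.dec i
  obtain ⟨d', hd', hQd'⟩ := exists_value_mem hD.dec j (neg_ne_zero.2 hQd)
  obtain ⟨w, hw, hQw⟩ := exists_aniso_mem hD.dec l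
  have hQδ : Q (d + d') = 0 := by rw [quad_add, hQd', hD.dec.orth i j hij d hd d' hd']; ring
  have hδw : polar Q (d + d') w = 0 := by
    rw [polar_add_left, hD.dec.orth i l hil d hd w hw, hD.dec.orth j l hjl d' hd' w hw, add_zero]
  obtain ⟨σ, hσ⟩ := hle (siegel_mem_commutator hQ hn hQδ hδw)
  obtain ⟨x, hx, hdx⟩ := ND.partner (hD.dec.nd i) hd (ne_zero_of_aniso hD hQd)
  have hm : (siegel Q (d + d') w).1 x ∈ D (σ i) := hσ i ▸ ⟨x, hx, rfl⟩
  have hβ : polar Q x (d + d') ≠ 0 := by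
    rw [polar_add_right, hD.dec.orth i j hij x hx d' hd', add_zero, polar_comm]; exact hdx
  rw [siegel_apply hQδ hδw, hD.dec.orth i l hil x hx w hw, zero_add] at hm
  rcases eq_or_ne (σ i) l with h | h
  · have h0 := pr_of_mem_ne hQ hD.dec (i := j) (by rw [h]; exact hjl) hm
    simp only [map_sub, map_add, map_smul, pr_of_mem_ne hQ hD.dec hij.symm hx,
      pr_of_mem_ne hQ hD.dec hjl hw, pr_of_mem_ne hQ hD.dec hij.symm hd, pr_of_mem hQ hD.dec hd',
      smul_zero, zero_add, zero_sub, neg_eq_zero] at h0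
    exact smul_ne_zero (mul_ne_zero hQw hβ)
      (ne_zero_of_aniso hD (by rw [hQd']; exact neg_ne_zero.2 hQd)) h0
  · have h0 := pr_of_mem_ne hQ hD.dec (i := l) h.symm hm
    simp only [map_sub, map_add, map_smul, pr_of_mem_ne hQ hD.dec hil.symm hx,
      pr_of_mem hQ hD.dec hw, pr_of_mem_ne hQ hD.dec hil.symm hd,
      pr_of_mem_ne hQ hD.dec hjl.symm hd', smul_zero, zero_add, sub_zero, add_zero] at h0
    exact smul_ne_zero hβ (ne_zero_of_aniso hD hQw) h0

theorem plane_maximal : Cfsg.Geo.IsMaximalIn (commutator (oGroup Q))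
    (decompStab Q D ⊓ commutator (oGroup Q)) := by
  refine ⟨lt_of_le_of_ne inf_le_right fun e => plane_proper hQ hD hn (e.ge.trans inf_le_left),
    fun M hM hMK => ?_⟩
  by_cases h : M ≤ decompStab Q D
  · exact Or.inl (le_antisymm (le_inf h hMK) hM)
  · refine Or.inr (le_antisymm hMK ?_)
    rcases exists_good hQ hD hn hM h with h1 | ⟨z, hz, hzD⟩
    · exact h1
    · exact le_of_good hQ hD hn hM hz hzD

end CfsgLib.Geo.OD2
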