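import Cfsg.Agent.Geo.OrthDec2.Plane

/-!
Two anisotropic vectors in two planes have partners with opposite non-zero values.
-/

set_option autoImplicit false
set_option linter.unusedSectionVars false

namespace CfsgLib.Geo.OD2

open QuadraticMap CfsgLib.Forms CfsgLib.Quad CfsgLib.Geo.OS

variable {F : Type*} [Field F] [Finite F]

/-- Two quadratic polynomials without roots have a common value. -/
theorem common_value_no_root {a b c a' b' c' : F} (ha : a ≠ 0) (ha' : a' ≠ 0)
    (hf : ∀ s, a * (s * s) + b * s + c ≠ 0) (hg : ∀ s, a' * (s * s) + b' * s + c' ≠ 0) :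
    ∃ s u, a * (s * s) + b * s + c = a' * (u * u) + b' * u + c' := by
  classical
  haveI := Fintype.ofFinite F
  have hcard : ∀ a b c : F, a ≠ 0 → Fintype.card F ≤
      2 * ((Finset.univ : Finset F).image fun s => a * (s * s) + b * s + c).card := by
    intro a b c ha
    refine le_trans (le_of_eq Finset.card_univ.symm)
      (Finset.card_le_mul_card_image Finset.univ 2 fun x hx => ?_)
    obtain ⟨s0, -, hs0⟩ := Finset.mem_image.1 hx
    refine le_trans (Finset.card_le_card (t := {s0, -(b / a) - s0}) fun s hs => ?_) Finset.card_le_two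
    simp only [Finset.mem_filter, Finset.mem_univ, true_and] at hs
    simp only [Finset.mem_insert, Finset.mem_singleton]
    rcases eq_or_ne s s0 with h | h
    · exact Or.inl h
    · refine Or.inr ?_
      have h1 : (s - s0) * (a * (s + s0) + b) = 0 := by linear_combination hs - hs0
      have h2 := (mul_eq_zero.1 h1).resolve_left (sub_ne_zero.2 h)
      field_simp
      linear_combination h2
  by_contra hc
  push Not at hc
  set I := (Finset.univ : Finset F).image fun s => a * (s * s) + b * s + c
  set J := (Finset.univ : Finset F).image fun s => a' * (s * s) + b' * s + c'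
  have hIJ : Disjoint I J := Finset.disjoint_left.2 fun x hx hx' => by
    obtain ⟨s, -, rfl⟩ := Finset.mem_image.1 hx
    obtain ⟨u, -, hu⟩ := Finset.mem_image.1 hx'
    exact hc s u hu.symm
  have hsub : I ∪ J ⊆ Finset.univ.erase 0 := fun x hx => by
    refine Finset.mem_erase.2 ⟨?_, Finset.mem_univ _⟩
    rcases Finset.mem_union.1 hx with hx | hx <;> obtain ⟨s, -, rfl⟩ := Finset.mem_image.1 hx
    exacts [hf s, hg s]
  have h1 := Finset.card_le_card hsub
  rw [Finset.card_union_of_disjoint hIJ, Finset.card_erase_of_mem (Finset.mem_univ _),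
    Finset.card_univ] at h1
  have hI : Fintype.card F ≤ 2 * I.card := hcard a b c ha
  have hJ : Fintype.card F ≤ 2 * J.card := hcard a' b' c' ha'
  have := Fintype.card_pos (α := F)
  omega

/-- In odd characteristic two quadratic polynomials without double roots share a non-zero value. -/
theorem common_value_odd (h2 : (2 : F) ≠ 0) (h7 : 7 ≤ Nat.card F) {a b c a' b' c' : F} (ha : a ≠ 0)
    (ha' : a' ≠ 0) (hd : b * b - 4 * a * c ≠ 0) :
    ∃ s u, a * (s * s) + b * s + c ≠ 0 ∧
      a * (s * s) + b * s + c = a' * (u * u) + b' * u + c' := by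
  classical
  haveI := Fintype.ofFinite F
  rw [Nat.card_eq_fintype_card] at h7
  have h4 : (4 : F) ≠ 0 := by rw [show (4 : F) = 2 * 2 by norm_num]; exact mul_ne_zero h2 h2
  set c0 := -(b * b - 4 * a * c) / (4 * a) with hc0_def
  set d := (-(b' * b' - 4 * a' * c') / (4 * a')) - c0 with hd_def
  have hc0 : c0 ≠ 0 := div_ne_zero (neg_ne_zero.2 hd) (mul_ne_zero h4 ha)
  suffices h : ∃ X Y, a * (X * X) + c0 ≠ 0 ∧ a * (X * X) - a' * (Y * Y) = d by
    obtain ⟨X, Y, h1, h3⟩ := h
    refine ⟨X - b / (2 * a), Y - b' / (2 * a'), ?_, ?_⟩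
    · convert h1 using 1
      rw [hc0_def]
      field_simp
      ring
    · rw [hd_def, hc0_def] at h3
      field_simp at h3 ⊢
      linear_combination h3
  rcases eq_or_ne d 0 with hd0 | hd0
  · exact ⟨0, 0, by simpa using hc0, by simp [hd0]⟩
  obtain ⟨X, Y, hXY⟩ := exists_binary h2 ha (neg_ne_zero.2 ha') d
  have hsol : a * (X * X) - a' * (Y * Y) = d := by linear_combination hXY
  by_cases hgood : a * (X * X) + c0 ≠ 0
  · exact ⟨X, Y, hgood, hsol⟩
  rw [not_not] at hgood
  have hX : X ≠ 0 := fun h => hc0 (by rw [h] at hgood; linear_combination hgood)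
  obtain ⟨m1, hm1⟩ : ∃ m1 : F, ∀ m, a - a' * (m * m) = 0 → m = m1 ∨ m = -m1 := by
    by_cases h : ∃ m, a - a' * (m * m) = 0
    · obtain ⟨m1, hm1⟩ := h
      refine ⟨m1, fun m hm => mul_self_eq_mul_self_iff.1 (mul_left_cancel₀ ha' ?_)⟩
      linear_combination hm1 - hm
    · exact ⟨0, fun m hm => absurd ⟨m, hm⟩ h⟩
  obtain ⟨m, -, hm⟩ := Finset.exists_mem_notMem_of_card_lt_card
    (s := ({m1, -m1, a * X / (a' * Y), 0, Y / X} : Finset F)) (t := Finset.univ)
    (lt_of_le_of_lt Finset.card_le_five (by rw [Finset.card_univ]; omega))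
  simp only [Finset.mem_insert, Finset.mem_singleton, not_or] at hm
  obtain ⟨hm_1, hm_2, hm3, hm4, hm5⟩ := hm
  have hden : a - a' * (m * m) ≠ 0 := fun h => (hm1 m h).elim hm_1 hm_2
  set r := -(2 * (a * X - a' * m * Y)) / (a - a' * (m * m)) with hr_def
  have hr : r ≠ 0 := div_ne_zero (neg_ne_zero.2 (mul_ne_zero h2 fun h => hm3 (by
    have hY : Y ≠ 0 := fun hY => by
      rw [hY] at h; exact mul_ne_zero ha hX (by linear_combination h)
    field_simp
    linear_combination -h))) hden
  have hre : r * (a - a' * (m * m)) = -(2 * (a * X - a' * m * Y)) := div_mul_cancel₀ _ hden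
  have hsol' : a * ((X + r) * (X + r)) - a' * ((Y + m * r) * (Y + m * r)) = d := by
    linear_combination hsol + r * hre
  refine ⟨X + r, Y + m * r, fun h => ?_, hsol'⟩
  have h1 : (X + r) * (X + r) = X * X := mul_left_cancel₀ ha (by linear_combination h - hgood)
  rcases mul_self_eq_mul_self_iff.1 h1 with h3 | h3
  · exact hr (by linear_combination h3)
  · have hrX : r = -(2 * X) := by linear_combination h3
    have h5 : (Y + m * r) * (Y + m * r) = Y * Y := mul_left_cancel₀ ha'
      (by linear_combination hsol - hsol' + h - hgood)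
    rcases mul_self_eq_mul_self_iff.1 h5 with h6 | h6
    · exact hm4 ((mul_eq_zero.1 (show m * r = 0 by linear_combination h6)).resolve_right hr)
    · rw [hrX] at h6
      refine hm5 ((eq_div_iff hX).2 (mul_left_cancel₀ h2 ?_))
      linear_combination -h6

/-- In characteristic two two separable quadratic polynomials with roots share a non-zero value. -/
theorem common_value_two [CharP F 2] (h7 : 7 ≤ Nat.card F) {a b c a' b' c' : F} (ha : a ≠ 0)
    (ha' : a' ≠ 0) {s0 u0 : F} (hs0 : a * (s0 * s0) + b * s0 + c = 0)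
    (hu0 : a' * (u0 * u0) + b' * u0 + c' = 0) :
    ∃ s u, a * (s * s) + b * s + c ≠ 0 ∧
      a * (s * s) + b * s + c = a' * (u * u) + b' * u + c' := by
  classical
  haveI := Fintype.ofFinite F
  rw [Nat.card_eq_fintype_card] at h7
  set φ : F × F → F := fun p => a * (p.1 * p.1) + b * p.1 + (a' * (p.2 * p.2) + b' * p.2)
  obtain ⟨y, -, hy⟩ := Finset.exists_le_card_fiber_of_mul_le_card_of_maps_to
    (f := φ) (s := (Finset.univ : Finset (F × F))) (t := Finset.univ)
    (fun _ _ => Finset.mem_univ _) Finset.univ_nonempty (n := Fintype.card F)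
    (by rw [Finset.card_univ, Finset.card_univ, Fintype.card_prod])
  obtain ⟨p0, hp0⟩ : (Finset.univ.filter fun p => φ p = y).Nonempty :=
    Finset.card_pos.1 (by omega)
  simp only [Finset.mem_filter, Finset.mem_univ, true_and] at hp0
  obtain ⟨p, hp, hpS⟩ := Finset.exists_mem_notMem_of_card_lt_card
    (s := ({(0, 0), (0, b' / a'), (b / a, 0), (b / a, b' / a')} : Finset (F × F)).image (p0 + ·))
    (t := Finset.univ.filter fun p => φ p = y)
    (lt_of_le_of_lt Finset.card_image_le (lt_of_le_of_lt Finset.card_le_four (by omega)))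
  simp only [Finset.mem_filter, Finset.mem_univ, true_and] at hp
  set x := p.1 - p0.1 with hx
  set z := p.2 - p0.2 with hz
  have h2 : (2 : F) = 0 := CharTwo.two_eq_zero
  have hker : a * (x * x) + b * x + (a' * (z * z) + b' * z) = 0 := by
    simp only [φ] at hp hp0
    rw [hx, hz]
    linear_combination hp - hp0 +
      (a * (p0.1 * p0.1 - p.1 * p0.1) + a' * (p0.2 * p0.2 - p.2 * p0.2)) * h2
  refine ⟨s0 + x, u0 + z, fun h => hpS ?_, ?_⟩
  · have hfx : x * (a * x + b) = 0 := by linear_combination h - hs0 - (a * s0 * x) * h2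
    have hgz : z * (a' * z + b') = 0 := by linear_combination hker - hfx
    have key : ∀ {a b x : F}, a ≠ 0 → x * (a * x + b) = 0 → x = 0 ∨ x = b / a := by
      intro a b x ha h
      rcases mul_eq_zero.1 h with h | h
      · exact Or.inl h
      · exact Or.inr (by rw [eq_div_iff ha]; linear_combination h - b * h2)
    refine Finset.mem_image.2 ⟨(x, z), ?_, by ext <;> simp [hx, hz]⟩
    simp only [Finset.mem_insert, Finset.mem_singleton, Prod.ext_iff]
    rcases key ha hfx with h1 | h1 <;> rcases key ha' hgz with h3 | h3 <;> simp [h1, h3]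
  · linear_combination hker + hs0 - hu0 +
      (a * s0 * x - a' * (z * z) - b' * z - a' * u0 * z) * h2

variable {V : Type*} [AddCommGroup V] [Module F V] [FiniteDimensional F V]
  {Q : QuadraticForm F V} {t : ℕ}
  (hQ : (polarBilin Q).Nondegenerate) {D : Fin t → Submodule F V} (hD : Dec2 Q D)

include hQ hD

/-- Partners of opposite non-zero values. -/
theorem exists_balanced {i j : Fin t} {u u' : V} (hu : u ∈ D i) (hu' : u' ∈ D j) (hQu : Q u ≠ 0)
    (hQu' : Q u' ≠ 0) : ∃ w ∈ D i, ∃ w' ∈ D j, polar Q u w = 1 ∧ polar Q u' w' = 1 ∧ Q w ≠ 0 ∧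
      Q w' = -Q w := by
  have line : ∀ (l : Fin t) (u : V), u ∈ D l → Q u ≠ 0 → ∃ w0 v, w0 ∈ D l ∧ v ∈ D l ∧
      polar Q u w0 = 1 ∧ polar Q u v = 0 ∧ v ≠ 0 ∧ Q v ≠ 0 := by
    intro l u hu hQu
    obtain ⟨y, hy, huy⟩ := ND.partner (hD.dec.nd l) hu (ne_zero_of_aniso hD hQu)
    obtain ⟨v, ⟨hv, hv'⟩, hv0⟩ := Submodule.exists_mem_ne_zero_of_ne_bot
      (p := D l ⊓ perpS Q (Submodule.span F {u})) (fun h => by
        have := ND.finrank_inf_perp_singleton hQ (D l) u
        rw [h, finrank_bot] at this
        have := hD.dec.dim l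
        omega)
    have huv := hv' u (Submodule.mem_span_singleton_self u)
    exact ⟨(polar Q u y)⁻¹ • y, v, (D l).smul_mem _ hy, hv,
      by rw [polar_smul_right, smul_eq_mul, inv_mul_cancel₀ huy], huv, hv0,
      perp_aniso hD hu hv hQu huv hv0⟩
  obtain ⟨w0, v, hw0, hv, huw, huv, hv0, hQv⟩ := line i u hu hQu
  obtain ⟨w0', v', hw0', hv', huw', huv', hv0', hQv'⟩ := line j u' hu' hQu'
  have hval : ∀ (w v : V) (s : F), Q (w + s • v) = Q v * (s * s) + polar Q w v * s + Q w :=
    fun w v s => by rw [quad_add, quad_smul, polar_smul_right, smul_eq_mul]; ring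
  suffices h : ∃ s r, Q v * (s * s) + polar Q w0 v * s + Q w0 ≠ 0 ∧
      Q v * (s * s) + polar Q w0 v * s + Q w0 =
        -Q v' * (r * r) + -polar Q w0' v' * r + -Q w0' by
    obtain ⟨s, r, h1, h2⟩ := h
    refine ⟨w0 + s • v, (D i).add_mem hw0 ((D i).smul_mem _ hv), w0' + r • v',
      (D j).add_mem hw0' ((D j).smul_mem _ hv'), ?_, ?_, by rwa [hval], ?_⟩
    · rw [polar_add_right, polar_smul_right, huw, huv, smul_zero, add_zero]
    · rw [polar_add_right, polar_smul_right, huw', huv', smul_zero, add_zero]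
    · rw [hval, hval]; linear_combination h2
  by_cases hsing : ∀ x ∈ D i, Q x = 0 → x = 0
  · have hsing' : ∀ x ∈ D j, Q x = 0 → x = 0 := fun x hx hQx => by
      obtain ⟨e, he⟩ := hD.dec.iso j i
      have h := hsing (e ⟨x, hx⟩) (e ⟨x, hx⟩).2 (by rw [he]; exact hQx)
      simpa using e.map_eq_zero_iff.1 (Subtype.ext h)
    have hne : ∀ (l : Fin t) (u w v : V), w ∈ D l → v ∈ D l → polar Q u w = 1 → polar Q u v = 0 →
        (∀ x ∈ D l, Q x = 0 → x = 0) → ∀ s : F, Q v * (s * s) + polar Q w v * s + Q w ≠ 0 := by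
      intro l u w v hw hv huw huv hs s h
      rw [← hval] at h
      have := congrArg (polar Q u) (hs _ ((D l).add_mem hw ((D l).smul_mem _ hv)) h)
      rw [polar_add_right, polar_smul_right, huw, huv, smul_zero, add_zero, polar_zero_right] at this
      exact one_ne_zero this
    obtain ⟨s, r, h⟩ := common_value_no_root (a' := -Q v') (b' := -polar Q w0' v') (c' := -Q w0')
      hQv (neg_ne_zero.2 hQv') (hne i u w0 v hw0 hv huw huv hsing)
      (fun r h => hne j u' w0' v' hw0' hv' huw' huv' hsing' r (by linear_combination -h))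
    exact ⟨s, r, hne i u w0 v hw0 hv huw huv hsing s, h⟩
  · push Not at hsing
    obtain ⟨e, he, hQe, he0⟩ := hsing
    have h7 : 7 ≤ Nat.card F := (hD.field i).resolve_left fun h => he0 (h.1 e he hQe)
    by_cases h2 : (2 : F) = 0
    · haveI : CharP F 2 := CharTwo.of_one_ne_zero_of_two_eq_zero one_ne_zero h2
      have root : ∀ (l : Fin t) (u w v e : V), u ∈ D l → Q u ≠ 0 → w ∈ D l → v ∈ D l → v ≠ 0 →
          polar Q u w = 1 → polar Q u v = 0 → e ∈ D l → e ≠ 0 → Q e = 0 →
          ∃ s : F, Q v * (s * s) + polar Q w v * s + Q w = 0 := by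
        intro l u w v e hu hQu hw hv hv0 huw huv he he0 hQe
        have hue : polar Q u e ≠ 0 := fun h => perp_aniso hD hu he hQu h he0 hQe
        obtain ⟨s, hs⟩ := Submodule.mem_span_singleton.1 (perp_mem hD hu (ne_zero_of_aniso hD hQu) hv hv0
          ((D l).sub_mem ((D l).smul_mem (polar Q u e)⁻¹ he) hw) huv
          (by rw [polar_sub_right, polar_smul_right, smul_eq_mul, inv_mul_cancel₀ hue, huw, sub_self]))
        exact ⟨s, by rw [← hval, hs, add_sub_cancel, quad_smul, hQe, mul_zero]⟩
      obtain ⟨φ, hφ⟩ := hD.dec.iso i j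
      obtain ⟨s0, hs0⟩ := root i u w0 v e hu hQu hw0 hv hv0 huw huv he he0 hQe
      obtain ⟨r0, hr0⟩ := root j u' w0' v' (φ ⟨e, he⟩) hu' hQu' hw0' hv' hv0' huw' huv' (φ _).2
        (fun h => he0 (by simpa using φ.map_eq_zero_iff.1 (Subtype.ext h))) (by rw [hφ]; exact hQe)
      exact common_value_two h7 hQv (neg_ne_zero.2 hQv') hs0 (u0 := r0) (by linear_combination -hr0)
    · refine common_value_odd h2 h7 hQv (neg_ne_zero.2 hQv') fun hd => ?_
      set s := -polar Q w0 v / (2 * Q v) with hs
      have hz : Q (w0 + s • v) = 0 := by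
        have h4 : (2 : F) * Q v ≠ 0 := mul_ne_zero h2 hQv
        rw [hval, hs]
        field_simp
        linear_combination -hd
      have hperp : polar Q v (w0 + s • v) = 0 := by
        rw [polar_add_right, polar_smul_right, polar_self, polar_comm (⇑Q) v w0, hs, smul_eq_mul,
          two_nsmul]
        field_simp
        ring
      have h0 : w0 + s • v = 0 := by
        by_contra h
        exact perp_aniso hD hv ((D i).add_mem hw0 ((D i).smul_mem _ hv)) hQv hperp h hz
      have := congrArg (polar Q u) h0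
      rw [polar_add_right, polar_smul_right, huw, huv, smul_zero, add_zero, polar_zero_right] at this
      exact one_ne_zero this

end CfsgLib.Geo.OD2
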